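import Cfsg.Agent.Lib.RankOneFF.PairCoordinates

/-!
# A strict offender all of whose proper overgroups lie in one maximal subgroup

`M` is maximal and contains the Sylow `p`-subgroup `T`, `A ≤ T` is a quadratic offender, strict with
respect to its proper nontrivial subgroups, and `H = ⟨A, xAx⁻¹⟩` for `x ∉ M`.  With `C = C_W(A)` and
`Z = C_W(H)`, all `C + gC` (`g ∉ M`) are the same invariant subgroup; hence an element of `A` fixing
a vector outside `C` of it lies in the core of `M`.  This forces `A` to act regularly on the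
conjugates of `M` different from `M`, and `H` to be `SL₂(|A|)` on `W / Z`.
-/

set_option autoImplicit false

namespace Cfsg.Agent.Lib.RankOneFF.PMinimal

open scoped Matrix

set_option linter.unusedSectionVars false

variable {H : Type*} [Group H] [Finite H] {W : Type*} [AddCommGroup W] [Finite W]
  [DistribMulAction H W] [FaithfulSMul H W] {p : ℕ}

/-- The hypotheses. -/
structure Hyp (p : ℕ) (W : Type*) [AddCommGroup W] [DistribMulAction H W] (T : Sylow p H)
    (M A : Subgroup H) : Prop where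
  max : IsCoatom M
  sylow_le : (T : Subgroup H) ≤ M
  le : A ≤ (T : Subgroup H)
  off : QOff p W A
  strict : ∀ A₀ : Subgroup H, A₀ ≤ A → A₀ ≠ ⊥ → A₀ ≠ A →
    Nat.card A₀ * Nat.card (fixW W A₀) < Nat.card A * Nat.card (fixW W A)
  moved : ∃ z ∈ fixW W (T : Subgroup H), ∃ h : H, h • z ≠ z
  gen : ∀ x : H, x ∉ M → A ⊔ cjS x A = ⊤

variable {T : Sylow p H} {M A : Subgroup H}

theorem range_coprod_subtype {W : Type*} [AddCommGroup W] (C D : AddSubgroup W) :
    (C.subtype.coprod D.subtype).range = C ⊔ D := by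
  refine le_antisymm ?_ (sup_le (fun c hc => ⟨(⟨c, hc⟩, 0), by simp⟩) fun d hd => ⟨(0, ⟨d, hd⟩), by simp⟩)
  rintro _ ⟨⟨c, d⟩, rfl⟩
  exact AddSubgroup.add_mem _ (AddSubgroup.mem_sup_left c.2) (AddSubgroup.mem_sup_right d.2)

/-- The image of a fixed space under an element of `H`. -/
theorem smul_mem_fixW {g : H} {w : W} (hw : w ∈ fixW W A) : g • w ∈ fixW W (cjS g A) := by
  rw [mem_fixW_cjS, inv_smul_smul]
  exact hw

namespace Hyp

variable (h : Hyp p W T M A)
include h

theorem exists_notMem : ∃ g, g ∉ M := by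
  by_contra hall
  push Not at hall
  exact h.max.1 ((Subgroup.eq_top_iff' M).mpr hall)

theorem le_M : A ≤ M := h.le.trans h.sylow_le

/-- A proper subgroup containing `A` lies in `M`. -/
theorem le_of_ne_top {K : Subgroup H} (hK : K ≠ ⊤) (hAK : A ≤ K) : K ≤ M := by
  intro x hx
  by_contra hxM
  refine hK (eq_top_iff.mpr ((h.gen x hxM).ge.trans (sup_le hAK ?_)))
  rintro _ ⟨a, ha, rfl⟩
  exact K.mul_mem (K.mul_mem hx (hAK ha)) (K.inv_mem hx)

/-- `C ∩ gC` is fixed by everything. -/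
theorem fixed_of_mem_inter {g : H} (hg : g ∉ M) {w : W} (hw : w ∈ fixW W A)
    (hw' : w ∈ fixW W (cjS g A)) (x : H) : x • w = w := by
  have hle : A ⊔ cjS g A ≤ MulAction.stabilizer H w :=
    sup_le (fun a ha => hw a ha) (fun a ha => hw' a ha)
  rw [h.gen g hg] at hle
  exact hle (Subgroup.mem_top x)

/-- A nonfixed vector of `C` has its stabiliser in `M`. -/
theorem mem_of_smul_eq {u : W} (hu : u ∈ fixW W A) (hmv : ∃ y : H, y • u ≠ u) {x : H}
    (hx : x • u = u) : x ∈ M := by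
  refine h.le_of_ne_top (K := MulAction.stabilizer H u) (fun htop => ?_) (fun a ha => hu a ha) hx
  obtain ⟨y, hy⟩ := hmv
  exact hy (show y ∈ MulAction.stabilizer H u from htop ▸ Subgroup.mem_top y)

/-- `C + gC` is invariant. -/
theorem smul_mem_sum {g : H} (hg : g ∉ M) {x : H} {v : W}
    (hv : v ∈ fixW W A ⊔ fixW W (cjS g A)) : x • v ∈ fixW W A ⊔ fixW W (cjS g A) := by
  set S := fixW W A ⊔ fixW W (cjS g A) with hS
  let N : Subgroup H :=
    { carrier := {y | ∀ u ∈ S, y • u ∈ S ∧ y⁻¹ • u ∈ S}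
      one_mem' := fun u hu => by simpa using hu
      mul_mem' := fun {a b} ha hb u hu => by
        refine ⟨?_, ?_⟩
        · rw [mul_smul]; exact (ha _ (hb u hu).1).1
        · rw [mul_inv_rev, mul_smul]; exact (hb _ (ha u hu).2).2
      inv_mem' := fun {a} ha u hu => by
        rw [inv_inv]; exact ⟨(ha u hu).2, (ha u hu).1⟩ }
  have hquad : ∀ (B : Subgroup H), (∀ b ∈ B, ∀ w : W, b • w - w ∈ S) → B ≤ N := by
    intro B hB b hb u hu
    refine ⟨?_, ?_⟩
    · have := S.add_mem (hB b hb u) hu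
      rwa [sub_add_cancel] at this
    · have := S.add_mem (hB _ (B.inv_mem hb) u) hu
      rwa [sub_add_cancel] at this
  have hle : A ⊔ cjS g A ≤ N :=
    sup_le (hquad A fun b hb w => AddSubgroup.mem_sup_left (h.off.quad b hb w))
      (hquad _ fun b hb w => AddSubgroup.mem_sup_right ((h.off.cjS g).quad b hb w))
  rw [h.gen g hg] at hle
  exact (hle (Subgroup.mem_top x) v hv).1

/-- An element of `A` fixing a vector of `C + gC` outside `C` lies in the core of `M`. -/
theorem mem_core {g : H} {v : W} (hv : v ∈ fixW W A ⊔ fixW W (cjS g A))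
    (hvC : v ∉ fixW W A) {a : H} (ha : a ∈ A) (hav : a • v = v) : a ∈ M.normalCore := by
  have key : ∀ k : H, k ∉ M → k⁻¹ * a * k ∈ M := by
    intro k hk
    have hle : fixW W A ⊔ fixW W (cjS g A) ≤ fixW W A ⊔ fixW W (cjS k A) := by
      refine sup_le le_sup_left fun w hw => ?_
      have h1 := h.smul_mem_sum hk (x := g)
        (AddSubgroup.mem_sup_left (S := fixW W A) (T := fixW W (cjS k A)) (mem_fixW_cjS.mp hw))
      rwa [smul_inv_smul] at h1
    obtain ⟨u, hu, w, hw, rfl⟩ := AddSubgroup.mem_sup.mp (hle hv)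
    have haw : a • w = w := by
      rw [smul_add, hu a ha] at hav
      exact add_left_cancel hav
    refine h.mem_of_smul_eq (mem_fixW_cjS.mp hw) ?_ ?_
    · by_contra hfix
      push Not at hfix
      refine hvC ((fixW W A).add_mem hu fun b hb => ?_)
      have h2 : w = k⁻¹ • w := by
        have := hfix k
        rwa [smul_inv_smul] at this
      have h3 := hfix b
      rwa [← h2] at h3
    · rw [mul_smul, mul_smul, smul_inv_smul, haw]
  intro x
  by_cases hx : x ∈ M
  · exact M.mul_mem (M.mul_mem hx (h.le_M ha)) (M.inv_mem hx)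
  · have := key x⁻¹ (fun hm => hx (M.inv_mem_iff.mp hm))
    rwa [inv_inv] at this

/-- A normal subgroup inside `M` has all its `p`-elements in a normal `p`-subgroup. -/
theorem exists_normal_pGroup [Fact p.Prime] :
    ∃ R : Subgroup H, R.Normal ∧ IsPGroup p R ∧
      ∀ u ∈ M.normalCore, (∃ n : ℕ, u ^ p ^ n = 1) → u ∈ R := by
  classical
  set K := M.normalCore with hK
  obtain ⟨Q⟩ : Nonempty (Sylow p K) := inferInstance
  set R := (Q : Subgroup K).map K.subtype with hR
  have hRp : IsPGroup p R := Q.2.map _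
  obtain ⟨S, hRS⟩ := hRp.exists_le_sylow
  obtain ⟨g, hg⟩ := MulAction.exists_smul_eq H T S
  have hQS : (Q : Subgroup K) = (S : Subgroup H).subgroupOf K := by
    refine (Q.3 (S.2.comap_subtype) fun x hx => ?_).symm
    exact hRS ⟨x, hx, rfl⟩
  set N := Subgroup.normalizer (R : Set H) with hN
  have hRn : N = ⊤ := by
    by_contra hne
    have hSN : cjS g A ≤ N := by
      intro x hx
      have hxS : x ∈ (S : Subgroup H) := by
        rw [← hg]
        obtain ⟨a, ha, rfl⟩ := hx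
        exact ⟨a, h.le ha, rfl⟩
      refine Subgroup.mem_normalizer_iff.mpr fun y => ?_
      rw [hR, hQS, Subgroup.subgroupOf_map_subtype, Subgroup.mem_inf, Subgroup.mem_inf]
      refine ⟨fun hy => ⟨(S : Subgroup H).mul_mem ((S : Subgroup H).mul_mem hxS hy.1)
        ((S : Subgroup H).inv_mem hxS), M.normalCore_normal.conj_mem _ hy.2 x⟩, fun hy => ⟨?_, ?_⟩⟩
      · have := (S : Subgroup H).mul_mem ((S : Subgroup H).mul_mem
          ((S : Subgroup H).inv_mem hxS) hy.1) hxS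
        simpa [mul_assoc] using this
      · have := M.normalCore_normal.conj_mem _ hy.2 x⁻¹
        simpa [mul_assoc] using this
    have hle : cjS g⁻¹ N ≤ M := by
      refine h.le_of_ne_top (fun htop => hne ?_) fun a ha => ?_
      · refine (Subgroup.eq_top_iff' N).mpr fun x => ?_
        have hx : g⁻¹ * x * g ∈ cjS g⁻¹ N := htop ▸ Subgroup.mem_top _
        rw [mem_cjS] at hx
        simpa [mul_assoc] using hx
      · rw [mem_cjS, inv_inv]
        exact hSN (conj_mem_cjS ha)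
    have hf : N ⊔ K = ⊤ := Sylow.normalizer_sup_eq_top Q
    have hle2 : N ⊔ K ≤ cjS g M := by
      refine sup_le (fun x hx => ?_) fun x hx => ?_
      · rw [mem_cjS]
        refine hle ?_
        rw [mem_cjS, inv_inv]
        simpa [mul_assoc] using hx
      · rw [mem_cjS]
        refine M.normalCore_le ?_
        have := M.normalCore_normal.conj_mem _ hx g⁻¹
        rwa [inv_inv] at this
    rw [hf] at hle2
    refine h.max.1 ((Subgroup.eq_top_iff' M).mpr fun x => ?_)
    have hx := hle2 (Subgroup.mem_top (g * x * g⁻¹))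
    rw [mem_cjS] at hx
    simpa [mul_assoc] using hx
  haveI hRnormal : R.Normal := Subgroup.normalizer_eq_top_iff.mp hRn
  refine ⟨R, hRnormal, hRp, fun u hu ⟨n, hn⟩ => ?_⟩
  haveI : (Q : Subgroup K).Normal := by
    rw [← Subgroup.comap_map_eq_self_of_injective K.subtype_injective (Q : Subgroup K)]
    exact hRnormal.comap _
  have hZ : IsPGroup p (Subgroup.zpowers (⟨u, hu⟩ : K)) := by
    rintro ⟨x, hx⟩
    obtain ⟨k, rfl⟩ := Subgroup.mem_zpowers_iff.mp hx
    refine ⟨n, Subtype.ext ?_⟩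
    have hn' : (⟨u, hu⟩ : K) ^ p ^ n = 1 := Subtype.ext (by simpa using hn)
    rw [SubgroupClass.coe_pow, Subgroup.coe_one, ← zpow_natCast, ← zpow_mul, mul_comm, zpow_mul,
      zpow_natCast, hn', one_zpow]
  have hle := Q.3 (hZ.to_sup_of_normal_right Q.2) le_sup_right
  exact ⟨⟨u, hu⟩, hle ▸ Subgroup.mem_sup_left (Subgroup.mem_zpowers _), rfl⟩

/-- A `p`-element of `gMg⁻¹` fixes a nonfixed vector of the translate of `C` by an element of `gM`. -/
theorem exists_fixed_vector [Fact p.Prime] {g b : H} (hb : g⁻¹ * b * g ∈ M)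
    (hbp : ∃ n : ℕ, b ^ p ^ n = 1) :
    ∃ m ∈ M, ∃ z ∈ fixW W (T : Subgroup H),
      (∃ y : H, y • z ≠ z) ∧ b • ((g * m) • z) = (g * m) • z := by
  obtain ⟨n, hn⟩ := hbp
  set u : M := ⟨g⁻¹ * b * g, hb⟩
  have hu : u ^ p ^ n = 1 := Subtype.ext (by
    rw [SubmonoidClass.coe_pow]
    show (g⁻¹ * b * g) ^ p ^ n = 1
    conv_lhs => enter [1, 2]; rw [← inv_inv g]
    rw [conj_pow, hn, mul_one, mul_inv_cancel])
  have hZ : IsPGroup p (Subgroup.zpowers u) := by
    rintro ⟨x, hx⟩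
    obtain ⟨k, rfl⟩ := Subgroup.mem_zpowers_iff.mp hx
    refine ⟨n, Subtype.ext ?_⟩
    rw [SubgroupClass.coe_pow, Subgroup.coe_one, ← zpow_natCast, ← zpow_mul, mul_comm, zpow_mul,
      zpow_natCast, hu, one_zpow]
  obtain ⟨S, hS⟩ := hZ.exists_le_sylow
  obtain ⟨m, hm⟩ := MulAction.exists_smul_eq M (T.subtype h.sylow_le) S
  obtain ⟨z, hz, hzm⟩ := h.moved
  have h1 : u ∈ (S : Subgroup M) := hS (Subgroup.mem_zpowers u)
  rw [← hm] at h1
  obtain ⟨t, ht, htu⟩ := h1
  have ht' : (t : H) ∈ (T : Subgroup H) := ht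
  have hb' : b = g * (m : H) * t * (g * (m : H))⁻¹ := by
    have h2 : (m : H) * t * (m : H)⁻¹ = g⁻¹ * b * g := congrArg Subtype.val htu
    calc b = g * (g⁻¹ * b * g) * g⁻¹ := by group
      _ = g * ((m : H) * t * (m : H)⁻¹) * g⁻¹ := by rw [h2]
      _ = _ := by group
  refine ⟨m, m.2, z, hz, hzm, ?_⟩
  rw [hb', mul_smul, inv_smul_smul, mul_smul _ (t : H), hz _ ht']

/-- `A` meets the other conjugates of `M` only in `R`. -/
theorem mem_R [Fact p.Prime] {R : Subgroup H}
    (hR : ∀ u ∈ M.normalCore, (∃ n : ℕ, u ^ p ^ n = 1) → u ∈ R) {g b : H} (hg : g ∉ M)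
    (hb : b ∈ A) (hb' : g⁻¹ * b * g ∈ M) : b ∈ R := by
  obtain ⟨m, hm, z, hz, ⟨y, hy⟩, hfix⟩ := h.exists_fixed_vector hb' (h.off.pow_elem hb)
  have hgm : g * m ∉ M := fun hc => hg ((M.mul_mem_cancel_right hm).mp hc)
  refine hR b (h.mem_core (g := g * m) (v := (g * m) • z) ?_ ?_ hb hfix) (h.off.pow_elem hb)
  · exact AddSubgroup.mem_sup_right (smul_mem_fixW fun a ha => hz a (h.le ha))
  · intro hc
    have hzC : z ∈ fixW W A := fun a ha => hz a (h.le ha)
    have hfx := h.fixed_of_mem_inter hgm hc (smul_mem_fixW hzC)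
    refine hy (smul_left_cancel (g * m) ?_)
    rw [← mul_smul, show g * m * y = g * m * y * (g * m)⁻¹ * (g * m) by group, mul_smul, hfx]

/-- The common fixed space has index `|C / Z|` at least in any invariant subgroup. -/
theorem card_sq_le {g : H} (hg : g ∉ M) (V1 : AddSubgroup W) (hV1 : ∀ x : H, ∀ v ∈ V1, x • v ∈ V1) :
    Nat.card ↥(fixW W A ⊓ V1) * Nat.card ↥(fixW W A ⊓ V1) ≤
      Nat.card V1 * Nat.card ↥(fixW W A ⊓ fixW W (cjS g A) ⊓ V1) := by
  set C1 := fixW W A ⊓ V1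
  set D1 := fixW W (cjS g A) ⊓ V1
  have hcard : Nat.card D1 = Nat.card C1 := Nat.card_congr
    { toFun := fun w => ⟨g⁻¹ • (w : W), mem_fixW_cjS.mp w.2.1, hV1 _ _ w.2.2⟩
      invFun := fun w => ⟨g • (w : W), smul_mem_fixW w.2.1, hV1 _ _ w.2.2⟩
      left_inv := fun w => Subtype.ext (smul_inv_smul g (w : W))
      right_inv := fun w => Subtype.ext (inv_smul_smul g (w : W)) }
  have hsum := card_add_mul_card_inf C1 D1
  rw [hcard] at hsum
  have hr : (C1.subtype.coprod D1.subtype).range ≤ V1 := by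
    rintro _ ⟨⟨c, d⟩, rfl⟩
    exact V1.add_mem c.2.2 d.2.2
  have hinf : C1 ⊓ D1 = fixW W A ⊓ fixW W (cjS g A) ⊓ V1 := inf_inf_distrib_right _ _ _ |>.symm
  rw [hsum, hinf]
  exact Nat.mul_le_mul_right _ (AddSubgroup.card_le_of_le hr)

/-- The orbit of a nonfixed vector: `(|A| / |A ∩ R|) |Z₁| ≤ |C₁|`. -/
theorem orbit_bound [Fact p.Prime] {R : Subgroup H}
    (hR : ∀ u ∈ M.normalCore, (∃ n : ℕ, u ^ p ^ n = 1) → u ∈ R) {g : H} (hg : g ∉ M)
    (V1 : AddSubgroup W) (hV1 : ∀ x : H, ∀ v ∈ V1, x • v ∈ V1)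
    (hTV1 : ∀ z ∈ fixW W (T : Subgroup H), z ∈ V1) :
    Nat.card A * Nat.card ↥(fixW W A ⊓ fixW W (cjS g A) ⊓ V1) ≤
      Nat.card ↥(fixW W A ⊓ V1) * Nat.card ↥(A ⊓ R) := by
  obtain ⟨z, hz, y, hy⟩ := h.moved
  have hzC : z ∈ fixW W A := fun a ha => hz a (h.le ha)
  set v := g • z with hv
  have hvV : v ∈ V1 := hV1 _ _ (hTV1 z hz)
  set C1 := fixW W A ⊓ V1 with hC1
  set Z1 := fixW W A ⊓ fixW W (cjS g A) ⊓ V1 with hZ1
  let δ : Additive A →+ C1 ⧸ Z1.addSubgroupOf C1 :=
    (QuotientAddGroup.mk' _).comp (AddMonoidHom.mk'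
      (fun a : Additive A => (⟨((Additive.toMul a : A) : H) • v - v,
        h.off.quad _ (Additive.toMul a).2 v, V1.sub_mem (hV1 _ _ hvV) hvV⟩ : C1))
      fun a b => Subtype.ext (by
        show ((Additive.toMul a * Additive.toMul b : A) : H) • v - v =
          (((Additive.toMul a : A) : H) • v - v) + (((Additive.toMul b : A) : H) • v - v)
        have h1 := h.off.quad _ (Additive.toMul b).2 v _ (Additive.toMul a).2
        rw [smul_sub] at h1
        rw [Subgroup.coe_mul, mul_smul, ← h1]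
        abel))
  have hδ : ∀ a : Additive A, δ a = 0 →
      ((Additive.toMul a : A) : H) ∈ A ⊓ R := by
    intro a ha
    set b : H := ((Additive.toMul a : A) : H) with hb
    have h1 : b • v - v ∈ Z1 :=
      AddSubgroup.mem_addSubgroupOf.mp ((QuotientAddGroup.eq_zero_iff _).mp ha)
    refine ⟨(Additive.toMul a).2, h.mem_R hR hg (Additive.toMul a).2 (by_contra fun hm => hy ?_)⟩
    have hw : b • v ∈ fixW W (cjS g A) := by
      have := (fixW W (cjS g A)).add_mem h1.1.2 (smul_mem_fixW (g := g) hzC)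
      rwa [← hv, sub_add_cancel] at this
    rw [mem_fixW_cjS, hv, ← mul_smul, ← mul_smul] at hw
    have hfx := h.fixed_of_mem_inter hm (w := (g⁻¹ * b * g) • z) hw (smul_mem_fixW hzC)
    refine smul_left_cancel (g⁻¹ * b * g) ?_
    rw [← mul_smul, show g⁻¹ * b * g * y = g⁻¹ * b * g * y * (g⁻¹ * b * g)⁻¹ * (g⁻¹ * b * g) by
      group, mul_smul, hfx]
  have hker : Nat.card δ.ker ≤ Nat.card ↥(A ⊓ R) := Nat.card_le_card_of_injective
    (fun a => (⟨((Additive.toMul (a : Additive A) : A) : H), hδ a a.2⟩ : ↥(A ⊓ R)))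
    fun a b hab => Subtype.ext (Additive.toMul.injective (Subtype.ext (congrArg Subtype.val hab :)))
  have h1 := δ.ker.index_mul_card
  rw [AddSubgroup.index_ker, Nat.card_congr Additive.toMul] at h1
  have h2 := AddSubgroup.card_le_card_addGroup δ.range
  have h3 : Nat.card (C1 ⧸ Z1.addSubgroupOf C1) * Nat.card Z1 = Nat.card C1 := by
    have hle : Z1 ≤ C1 := le_inf (inf_le_left.trans inf_le_left) inf_le_right
    rw [← Nat.card_congr (AddSubgroup.addSubgroupOfEquivOfLe hle).toEquiv]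
    exact (AddSubgroup.card_eq_card_quotient_mul_card_addSubgroup _).symm
  calc Nat.card A * Nat.card Z1 = Nat.card δ.range * Nat.card δ.ker * Nat.card Z1 := by rw [h1]
    _ ≤ Nat.card (C1 ⧸ Z1.addSubgroupOf C1) * Nat.card ↥(A ⊓ R) * Nat.card Z1 :=
        Nat.mul_le_mul_right _ (Nat.mul_le_mul h2 hker)
    _ = _ := by rw [mul_right_comm, h3]

/-- The offender is regular, and `W = C + gC`. -/
theorem main_numbers [Fact p.Prime] :
    (∀ u ∈ M.normalCore, (∃ n : ℕ, u ^ p ^ n = 1) → u = 1) ∧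
      ∀ g ∉ M, Nat.card (fixW W A) = Nat.card A * Nat.card ↥(fixW W A ⊓ fixW W (cjS g A)) ∧
        Nat.card W = Nat.card A * Nat.card (fixW W A) ∧
        fixW W A ⊔ fixW W (cjS g A) = ⊤ := by
  obtain ⟨R, hRn, hRp, hR⟩ := h.exists_normal_pGroup
  set V1 := fixW W R with hV1def
  have hV1 : ∀ x : H, ∀ v ∈ V1, x • v ∈ V1 := fun x v hv r hr => by
    have h1 := hv _ (hRn.conj_mem r hr x⁻¹)
    rw [inv_inv, mul_smul, mul_smul] at h1
    exact inv_smul_eq_iff.mp h1
  have hRT : R ≤ (T : Subgroup H) := by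
    haveI := hRn
    exact hRp.le_sylow_of_normal T
  have hTV1 : ∀ z ∈ fixW W (T : Subgroup H), z ∈ V1 := fun z hz r hr => hz r (hRT hr)
  obtain ⟨g₀, hg₀⟩ := h.exists_notMem
  -- `A ∩ R = 1`
  set A₀ := A ⊓ R with hA₀
  have hne : A₀ ≠ A := by
    intro he
    have hAR : A ≤ R := inf_eq_left.mp he
    have hle : A ⊔ cjS g₀ A ≤ R := by
      refine sup_le hAR ?_
      rintro _ ⟨a, ha, rfl⟩
      exact hRn.conj_mem a (hAR ha) g₀
    rw [h.gen g₀ hg₀] at hle
    exact hg₀ (h.sylow_le (hRT (hle (Subgroup.mem_top g₀))))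
  set q := Nat.card A with hq
  set C := fixW W A with hC
  have hA0 : A₀ = ⊥ := by
    by_contra hA0ne
    have hst := h.strict A₀ inf_le_left hA0ne hne
    have hsub : C ⊔ V1 ≤ fixW W A₀ :=
      sup_le (fun w hw a ha => hw a ha.1) (fun w hw a ha => hw a ha.2)
    have hsum := card_add_mul_card_inf C V1
    rw [range_coprod_subtype] at hsum
    have hl := AddSubgroup.card_le_of_le hsub
    have ho := h.orbit_bound hR hg₀ V1 hV1 hTV1
    have hs := h.card_sq_le hg₀ V1 hV1
    set c1 := Nat.card ↥(C ⊓ V1)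
    set v1 := Nat.card V1
    set z1 := Nat.card ↥(C ⊓ fixW W (cjS g₀ A) ⊓ V1)
    set a0 := Nat.card A₀
    have hz1 : 0 < z1 := Nat.card_pos
    have hc1 : 0 < c1 := Nat.card_pos
    have ha0 : 0 < a0 := Nat.card_pos
    have hCpos : 0 < Nat.card C := Nat.card_pos
    -- `v1 a0 < q c1`
    have h1 : v1 * a0 < q * c1 := by
      refine Nat.lt_of_mul_lt_mul_left (a := Nat.card C) ?_
      calc Nat.card C * (v1 * a0) = Nat.card ↥(C ⊔ V1) * c1 * a0 := by rw [← mul_assoc, hsum]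
        _ ≤ Nat.card (fixW W A₀) * c1 * a0 :=
            Nat.mul_le_mul_right _ (Nat.mul_le_mul_right _ hl)
        _ = a0 * Nat.card (fixW W A₀) * c1 := by ring
        _ < q * Nat.card C * c1 := Nat.mul_lt_mul_of_pos_right hst hc1
        _ = _ := by ring
    -- `q c1 ≤ v1 a0`
    have h2 : q * c1 ≤ v1 * a0 := by
      refine Nat.le_of_mul_le_mul_right ?_ hz1
      calc q * c1 * z1 = c1 * (q * z1) := by ring
        _ ≤ c1 * (c1 * a0) := Nat.mul_le_mul_left _ ho
        _ = c1 * c1 * a0 := by ring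
        _ ≤ v1 * z1 * a0 := Nat.mul_le_mul_right _ hs
        _ = _ := by ring
    omega
  have ha0 : Nat.card A₀ = 1 := by rw [hA0]; exact Subgroup.card_bot
  have hnum : ∀ g ∉ M, Nat.card C = q * Nat.card ↥(C ⊓ fixW W (cjS g A)) ∧
      Nat.card W = q * Nat.card C ∧ C ⊔ fixW W (cjS g A) = ⊤ ∧ C ≤ V1 := by
    intro g hg
    have ho := h.orbit_bound hR hg V1 hV1 hTV1
    rw [← hA₀, ha0, mul_one] at ho
    set C' := fixW W (cjS g A)
    have hzle : C ⊓ C' ≤ V1 := fun w hw r _ => h.fixed_of_mem_inter hg hw.1 hw.2 r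
    rw [inf_eq_left.mpr hzle] at ho
    have hc1 := AddSubgroup.card_le_of_le (inf_le_left : C ⊓ V1 ≤ C)
    have hsum := card_add_mul_card_inf C C'
    rw [range_coprod_subtype, card_fixW_cjS] at hsum
    have hoff : Nat.card W ≤ q * Nat.card C := h.off.off
    have hle := AddSubgroup.card_le_card_addGroup (C ⊔ C')
    set z := Nat.card ↥(C ⊓ C')
    set c := Nat.card C
    have hz : 0 < z := Nat.card_pos
    have hcpos : 0 < c := Nat.card_pos
    have hc : c = q * z := by
      refine le_antisymm ?_ (ho.trans hc1)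
      refine Nat.le_of_mul_le_mul_left ?_ hcpos
      calc c * c = Nat.card ↥(C ⊔ C') * z := hsum
        _ ≤ q * c * z := Nat.mul_le_mul_right _ (hle.trans hoff)
        _ = _ := by ring
    have hS : Nat.card ↥(C ⊔ C') = q * c := by
      refine Nat.eq_of_mul_eq_mul_right hz ?_
      rw [← hsum]
      nth_rw 1 [hc]
      ring
    have hW : Nat.card W = q * c := le_antisymm hoff (hS ▸ hle)
    refine ⟨hc, hW, AddSubgroup.eq_top_of_card_eq _ (hS.trans hW.symm), ?_⟩
    exact inf_eq_left.mp (SetLike.coe_injective (Set.eq_of_subset_of_ncard_le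
      (inf_le_left : C ⊓ V1 ≤ C) (hc.le.trans ho)))
  refine ⟨fun u hu hup => ?_, fun g hg => ⟨(hnum g hg).1, (hnum g hg).2.1, (hnum g hg).2.2.1⟩⟩
  obtain ⟨-, -, htop, hCV⟩ := hnum g₀ hg₀
  have hall : ∀ w : W, w ∈ V1 := by
    intro w
    have hle : C ⊔ fixW W (cjS g₀ A) ≤ V1 := sup_le hCV fun x hx => by
      have := hV1 g₀ _ (hCV (mem_fixW_cjS.mp hx))
      rwa [smul_inv_smul] at this
    exact hle (htop ▸ AddSubgroup.mem_top w)
  exact FaithfulSMul.eq_of_smul_eq_smul (α := W) fun w => by rw [hall w u (hR u hu hup), one_smul]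

/-- The conclusion. -/
theorem exists_sl_two [Fact p.Prime] (hpW : ∀ w : W, p • w = 0) :
    (∀ g : H, g ∉ M → ∀ c ∈ fixW W A, ∃ a ∈ A, ∃ w : W,
      a • w - w - c ∈ fixW W A ⊓ fixW W (cjS g A)) ∧
    ∃ (F : Type) (_ : Field F) (_ : Fintype F) (_ : Fintype.card F = Nat.card A)
      (ρ : H ≃* Matrix.SpecialLinearGroup (Fin 2) F)
      (θ : W →+ (Fin 2 → F)), Function.Surjective θ ∧
        (∀ w : W, θ w = 0 ↔ ∀ h : H, h • w = w) ∧
        ∀ (h : H) (w : W), θ (h • w) = ((ρ h : Matrix.SpecialLinearGroup (Fin 2) F) :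
          Matrix (Fin 2) (Fin 2) F) *ᵥ θ w := by
  obtain ⟨hcore, hnum⟩ := h.main_numbers
  set q := Nat.card A with hq
  set C := fixW W A with hC
  have hreg : ∀ g ∉ M, ∀ a ∈ A, g⁻¹ * a * g ∈ M → a = 1 := by
    intro g hg a ha ha'
    obtain ⟨m, hm, z, hz, ⟨y, hy⟩, hfix⟩ := h.exists_fixed_vector ha' (h.off.pow_elem ha)
    have hgm : g * m ∉ M := fun hc => hg ((M.mul_mem_cancel_right hm).mp hc)
    have hzC : z ∈ C := fun a ha => hz a (h.le ha)
    refine hcore a (h.mem_core (g := g * m) (v := (g * m) • z) ?_ ?_ ha hfix) (h.off.pow_elem ha)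
    · exact AddSubgroup.mem_sup_right (smul_mem_fixW hzC)
    · intro hc
      have hfx := h.fixed_of_mem_inter hgm hc (smul_mem_fixW hzC)
      refine hy (smul_left_cancel (g * m) ?_)
      rw [← mul_smul, show g * m * y = g * m * y * (g * m)⁻¹ * (g * m) by group, mul_smul, hfx]
  -- the pair data
  have hkey : ∀ g ∉ M, ∀ a ∈ A, a ≠ 1 → ∀ z ∈ fixW W (cjS g A), a • z ∈ fixW W (cjS g A) →
      z ∈ C := by
    intro g hg a ha ha1 z hz haz b hb
    have hm : g⁻¹ * a * g ∉ M := fun hc => ha1 (hreg g hg a ha hc)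
    have hz' := mem_fixW_cjS.mp hz
    have h1 : g⁻¹ • (a • z) ∈ fixW W A := mem_fixW_cjS.mp haz
    rw [show g⁻¹ • (a • z) = (g⁻¹ * a * g) • (g⁻¹ • z) by simp only [mul_smul, smul_inv_smul]] at h1
    have hfx := h.fixed_of_mem_inter hm h1 (smul_mem_fixW hz')
    have h2 : ∀ x : H, x • (g⁻¹ • z) = g⁻¹ • z := fun x => by
      refine smul_left_cancel (g⁻¹ * a * g) ?_
      rw [← mul_smul, show g⁻¹ * a * g * x = g⁻¹ * a * g * x * (g⁻¹ * a * g)⁻¹ * (g⁻¹ * a * g) by
        group, mul_smul, hfx]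
    have h3 : z = g⁻¹ • z := by
      have := h2 g
      rwa [smul_inv_smul] at this
    rw [h3, h2]
  have hmap : ∀ g ∉ M, ∀ z ∈ fixW W (cjS g A), z ∉ C → ∀ c ∈ C,
      ∃ a ∈ A, a • z - z - c ∈ C ⊓ fixW W (cjS g A) := by
    intro g hg z hz hzC c hc
    set C' := fixW W (cjS g A)
    have hinj : Function.Injective (fun x : A × ↥(C ⊓ C') =>
        (⟨(x.1 : H) • z - z + (x.2 : W), C.add_mem (h.off.quad _ x.1.2 z) x.2.2.1⟩ : C)) := by
      rintro ⟨⟨a, ha⟩, c1⟩ ⟨⟨a', ha'⟩, c2⟩ heq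
      have he : a • z - z + (c1 : W) = a' • z - z + (c2 : W) := congrArg Subtype.val heq
      have h4 : a'⁻¹ * a = 1 := by
        by_contra hne'
        refine hzC (hkey g hg _ (A.mul_mem (A.inv_mem ha') ha) hne' z hz ?_)
        have h1 : a • z = a' • z + ((c2 : W) - c1) := by
          calc a • z = a • z - z + (c1 : W) + z - c1 := by abel
            _ = a' • z - z + (c2 : W) + z - c1 := by rw [he]
            _ = _ := by abel
        rw [mul_smul, h1, smul_add, inv_smul_smul,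
          h.fixed_of_mem_inter hg ((C ⊓ C').sub_mem c2.2 c1.2).1 ((C ⊓ C').sub_mem c2.2 c1.2).2]
        exact C'.add_mem hz (C'.sub_mem c2.2.2 c1.2.2)
      obtain rfl : a' = a := inv_mul_eq_one.mp h4
      obtain rfl : c1 = c2 := Subtype.ext (add_left_cancel he)
      rfl
    have hbij := (Nat.bijective_iff_injective_and_card _).mpr
      ⟨hinj, by rw [Nat.card_prod, ← hq, (hnum g hg).1]⟩
    obtain ⟨⟨a, c0⟩, hac⟩ := hbij.2 ⟨c, hc⟩
    refine ⟨a, a.2, ?_⟩
    have h1 : (a : H) • z - z + (c0 : W) = c := congrArg Subtype.val hac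
    rw [← h1, sub_add_cancel_left]
    exact (C ⊓ C').neg_mem c0.2
  have hne : ∀ g ∉ M, ∃ z ∈ fixW W (cjS g A), z ∉ C := by
    intro g hg
    obtain ⟨z, hz, y, hy⟩ := h.moved
    have hzC : z ∈ C := fun a ha => hz a (h.le ha)
    refine ⟨g • z, smul_mem_fixW hzC, fun hc => hy (smul_left_cancel g ?_)⟩
    rw [← mul_smul, show g * y = g * y * g⁻¹ * g by group, mul_smul,
      h.fixed_of_mem_inter hg hc (smul_mem_fixW hzC)]
  -- `C` is invariant under `M`
  obtain ⟨g, hg⟩ := h.exists_notMem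
  set C' := fixW W (cjS g A) with hC'
  have hcover : ∀ v : W, v ∉ C → ∃ a ∈ A, a⁻¹ • v ∈ C' := by
    intro v hv
    obtain ⟨u, hu, w, hw, rfl⟩ :=
      AddSubgroup.mem_sup.mp ((hnum g hg).2.2 ▸ AddSubgroup.mem_top v : v ∈ C ⊔ C')
    have hwC : w ∉ C := fun hc => hv (C.add_mem hu hc)
    obtain ⟨a, ha, haw⟩ := hmap g hg w hw hwC u hu
    refine ⟨a, ha, ?_⟩
    have h1 : u + w = a • w - (a • w - w - u) := by abel
    rw [h1, smul_sub, inv_smul_smul, h.fixed_of_mem_inter hg haw.1 haw.2]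
    exact C'.sub_mem hw haw.2
  have hMC : ∀ m ∈ M, ∀ u ∈ C, m • u ∈ C := by
    intro m hm u hu
    by_contra hv
    obtain ⟨a, ha, hav⟩ := hcover _ hv
    rw [hC', mem_fixW_cjS, ← mul_smul, ← mul_smul] at hav
    have hk : g⁻¹ * a⁻¹ * m ∉ M := fun hc => hg (by
      have hga : g⁻¹ * a⁻¹ ∈ M := (M.mul_mem_cancel_right hm).mp hc
      exact M.inv_mem_iff.mp ((M.mul_mem_cancel_right (M.inv_mem (h.le_M ha))).mp hga))
    have hfx := h.fixed_of_mem_inter hk hav (smul_mem_fixW hu)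
    refine hv ?_
    have h2 : ∀ x : H, x • u = u := fun x => by
      refine smul_left_cancel (g⁻¹ * a⁻¹ * m) ?_
      rw [← mul_smul, show g⁻¹ * a⁻¹ * m * x =
        g⁻¹ * a⁻¹ * m * x * (g⁻¹ * a⁻¹ * m)⁻¹ * (g⁻¹ * a⁻¹ * m) by group, mul_smul, hfx]
    rw [h2 m]
    exact hu
  -- an element acting trivially on `W / Z` is trivial
  have hker : ∀ x : H, x ^ p = 1 → (∀ w : W, ∀ y : H, y • (x • w - w) = x • w - w) → x = 1 := by
    intro x hx htriv
    refine hcore x (fun k => ?_) ⟨1, by rw [pow_one]; exact hx⟩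
    obtain ⟨z, hz, y, hy⟩ := h.moved
    have hzC : z ∈ C := fun a ha => hz a (h.le ha)
    by_contra hk
    have hu : (k * x * k⁻¹) • z ∈ C := by
      have h1 : (k * x * k⁻¹) • z - z = k • (x • (k⁻¹ • z) - k⁻¹ • z) := by
        rw [smul_sub, smul_inv_smul, mul_smul, mul_smul]
      have h2 : (k * x * k⁻¹) • z - z ∈ C := by
        rw [h1, htriv]
        exact fun a _ => htriv _ a
      have := C.add_mem h2 hzC
      rwa [sub_add_cancel] at this
    refine hy (smul_left_cancel (k * x * k⁻¹) ?_)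
    rw [← mul_smul, show k * x * k⁻¹ * y = k * x * k⁻¹ * y * (k * x * k⁻¹)⁻¹ * (k * x * k⁻¹) by
      group, mul_smul, h.fixed_of_mem_inter hk hu (smul_mem_fixW hzC)]
  -- the outside cosets of `M` are the `a g M`
  have htrans : ∀ g' ∉ M, ∀ k ∉ M, ∃ a ∈ A, (a * g')⁻¹ * k ∈ M := by
    intro g' hg' k hk
    obtain ⟨z, hz, hzk⟩ := hne k hk
    obtain ⟨u, hu, w, hw, rfl⟩ := AddSubgroup.mem_sup.mp
      ((hnum g' hg').2.2 ▸ AddSubgroup.mem_top z : z ∈ C ⊔ fixW W (cjS g' A))
    have hwC : w ∉ C := fun hc => hzk (C.add_mem hu hc)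
    obtain ⟨a, ha, haw⟩ := hmap g' hg' w hw hwC u hu
    refine ⟨a, ha, by_contra fun hc => ?_⟩
    have h1 : ((a * g')⁻¹ * k) • (k⁻¹ • (u + w)) ∈ C := by
      rw [mul_smul, smul_inv_smul, mul_inv_rev, mul_smul]
      refine mem_fixW_cjS.mp ?_
      rw [show u + w = a • w - (a • w - w - u) by abel, smul_sub, inv_smul_smul,
        h.fixed_of_mem_inter hg' haw.1 haw.2]
      exact (fixW W (cjS g' A)).sub_mem hw haw.2
    have hz' : k⁻¹ • (u + w) ∈ C := mem_fixW_cjS.mp hz
    have hfx := h.fixed_of_mem_inter hc h1 (smul_mem_fixW hz')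
    refine hzk ?_
    set x := (a * g')⁻¹ * k
    have h2 : ∀ b : H, b • (k⁻¹ • (u + w)) = k⁻¹ • (u + w) := fun b => by
      refine smul_left_cancel x ?_
      rw [← mul_smul, show x * b = x * b * x⁻¹ * x by group, mul_smul, hfx]
    have h3 : u + w = k⁻¹ • (u + w) := by
      have := h2 k
      rwa [smul_inv_smul] at this
    rw [h3]
    exact fun b _ => h2 b
  -- `A` is normal in `M`
  have hnorm : ∀ m ∈ M, cjS m A = A := by
    intro m hm
    refine Subgroup.eq_of_le_of_card_ge ?_ (card_cjS m A).ge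
    intro x hx
    obtain ⟨b, hb, hbx⟩ := hx
    have hxM : x ∈ M := by
      rw [← hbx]
      exact M.mul_mem (M.mul_mem hm (h.le_M hb)) (M.inv_mem hm)
    obtain ⟨a, ha, hax⟩ := htrans g hg (x * g) (fun hc => hg ((M.mul_mem_cancel_left hxM).mp hc))
    set y := a⁻¹ * x with hy
    have hyM : g⁻¹ * y * g ∈ M := by
      convert hax using 1
      rw [hy]
      group
    have hxC : ∀ u ∈ C, x • u = u := by
      intro u hu
      rw [← hbx]
      show (m * b * m⁻¹) • u = u
      rw [mul_smul, mul_smul, (hMC _ (M.inv_mem hm) u hu) b hb, smul_inv_smul]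
    have hxquad : ∀ w : W, x • w - w ∈ C := by
      intro w
      have h1 := hMC m hm _ (h.off.quad b hb (m⁻¹ • w))
      rw [smul_sub, smul_inv_smul] at h1
      rw [← hbx]
      show (m * b * m⁻¹) • w - w ∈ C
      rwa [mul_smul, mul_smul]
    have hcomm : a * x = x * a :=
      commute_of_series (C := C) (fun w hw => hw a ha) hxC (h.off.quad a ha) hxquad
    have hyfix : ∀ u ∈ C, y • u = u := fun u hu => by
      rw [hy, mul_smul, hxC u hu, hu _ (A.inv_mem ha)]
    have hyquad : ∀ w : W, y • w - w ∈ C := fun w => by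
      have h1 := C.add_mem (h.off.quad _ (A.inv_mem ha) (x • w)) (hxquad w)
      rwa [sub_add_sub_cancel, ← mul_smul, ← hy] at h1
    have hyC' : ∀ w ∈ C', y • w ∈ C' := by
      intro w hw
      rw [hC', mem_fixW_cjS] at hw ⊢
      have h1 := hMC _ hyM _ hw
      rwa [show (g⁻¹ * y * g) • (g⁻¹ • w) = g⁻¹ • (y • w) by
        simp only [mul_smul, smul_inv_smul]] at h1
    have hyp : y ^ p = 1 := by
      refine FaithfulSMul.eq_of_smul_eq_smul (α := W) fun w => ?_
      have hk : ∀ k : ℕ, y ^ k • w = w + k • (y • w - w) := by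
        intro k
        induction k with
        | zero => simp
        | succ k ih =>
          have e : ∀ n : ℕ, y ^ n • (y • w - w) = y • w - w := by
            intro n
            induction n with
            | zero => simp
            | succ n ih' => rw [pow_succ, mul_smul, hyfix _ (hyquad w), ih']
          rw [pow_succ, mul_smul, succ_nsmul, ← add_assoc, ← ih]
          have e' := e k
          rw [smul_sub] at e'
          rw [← e']
          abel
      rw [hk, hpW, add_zero, one_smul]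
    have hy1 : y = 1 := by
      refine hker y hyp fun w t => ?_
      obtain ⟨u, hu, w', hw', rfl⟩ :=
        AddSubgroup.mem_sup.mp ((hnum g hg).2.2 ▸ AddSubgroup.mem_top w : w ∈ C ⊔ C')
      rw [smul_add, hyfix u hu, add_sub_add_left_eq_sub]
      exact h.fixed_of_mem_inter hg (hyquad w') (C'.sub_mem (hyC' w' hw') hw') t
    rw [show x = a from (inv_mul_eq_one.mp hy1).symm]
    exact ha
  -- the pairing
  have hpairs : ∀ a ∈ A, a ≠ 1 → ∃ b ∈ cjS g A, cjS b A = cjS a (cjS g A) := by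
    intro a ha ha1
    obtain ⟨c, hc, hcm⟩ := htrans g⁻¹ (fun hm => hg (M.inv_mem_iff.mp hm)) (g⁻¹ * a * g)
      (fun hm => ha1 (hreg g hg a ha hm))
    refine ⟨g * c * g⁻¹, conj_mem_cjS hc, ?_⟩
    have he : a * g = g * c * g⁻¹ * ((c * g⁻¹)⁻¹ * (g⁻¹ * a * g)) := by group
    rw [cjS_cjS a g, he, ← cjS_cjS (g * c * g⁻¹) ((c * g⁻¹)⁻¹ * (g⁻¹ * a * g)), hnorm _ hcm]
  have hpd : PairData W A (cjS g A) :=
    { ne := hne g hg
      key := hkey g hg
      card_index := by rw [(hnum g hg).2.1, (hnum g hg).1]; ring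
      card_fix := (hnum g hg).1
      sup := fun w => AddSubgroup.mem_sup.mp ((hnum g hg).2.2 ▸ AddSubgroup.mem_top w)
      surj := hmap g hg }
  refine ⟨fun g' hg' c hc => ?_, ?_⟩
  · obtain ⟨z, hz, hzC⟩ := hne g' hg'
    obtain ⟨a, ha, haz⟩ := hmap g' hg' z hz hzC c hc
    exact ⟨a, ha, z, haz⟩
  · exact exists_sl_two_of_pair hpW h.off.ne h.off.quad (h.off.cjS g).quad (card_cjS g A).le hpd
      (fun x => (h.gen g hg).symm ▸ Subgroup.mem_top x) hpairs hker

end Hyp

end Cfsg.Agent.Lib.RankOneFF.PMinimal
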