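import Cfsg.Agent.Lib.RankOneFF.JordanComm

/-!
# Finite Jordan division sets of odd characteristic are fields

An additive group of elements of a finite ring of odd prime characteristic which contains `1` and is
closed under inversion is a field.
-/

set_option autoImplicit false

namespace Cfsg.Agent.Lib.RankOneFF.Jordan

variable {E : Type*} [Ring E] [Finite E] [Nontrivial E] {p : ℕ}

theorem IsJord.comm {A : AddSubgroup E} (hA : IsJord p A) :
    ∀ x ∈ A, ∀ y ∈ A, x * y = y * x := by
  classical
  suffices h : ∀ n : ℕ, ∀ A : AddSubgroup E, IsJord p A → Nat.card A ≤ n →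
      ∀ x ∈ A, ∀ y ∈ A, x * y = y * x from h _ A hA le_rfl
  intro n
  induction n with
  | zero =>
    intro A _ hle
    have : 0 < Nat.card A := Nat.card_pos
    omega
  | succ n ih =>
    intro A hA hle
    have hsmall : SmallComm A := by
      intro z hz hzc x hx y hy hzx hzy
      have hlt : A ⊓ (AddMonoidHom.mulLeft z - AddMonoidHom.mulRight z).ker < A := by
        refine lt_of_le_of_ne inf_le_left fun heq => hzc ⟨hz, fun a ha => ?_⟩
        rw [← heq] at ha
        exact sub_eq_zero.mp ha.2
      have hcard : Nat.card ↥(A ⊓ (AddMonoidHom.mulLeft z - AddMonoidHom.mulRight z).ker) <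
          Nat.card A := Set.ncard_lt_ncard (SetLike.coe_ssubset_coe.mpr hlt)
      exact ih _ (hA.commutant z) (by omega) x ⟨hx, sub_eq_zero.mpr hzx⟩ y ⟨hy, sub_eq_zero.mpr hzy⟩
    letI : Field (centralSubring hA) := hA.isField_central.toField
    letI : SMul (centralSubring hA) A :=
      ⟨fun c x => ⟨(c : E) * x, hA.mul_mem_of_comm c.2.1 x.2 (c.2.2 _ x.2)⟩⟩
    have hval : ∀ (c : centralSubring hA) (x : A), ((c • x : A) : E) = (c : E) * x := fun _ _ => rfl
    letI : Module (centralSubring hA) A :=
      { one_smul := fun x => Subtype.ext (by rw [hval]; exact one_mul _)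
        mul_smul := fun a b x => Subtype.ext (by
          rw [hval, hval, hval]; exact mul_assoc _ _ _)
        smul_zero := fun a => Subtype.ext (by
          rw [hval, AddSubgroup.coe_zero, mul_zero])
        smul_add := fun a x y => Subtype.ext (by
          rw [hval, AddSubgroup.coe_add, AddSubgroup.coe_add, hval, hval, mul_add])
        add_smul := fun a b x => Subtype.ext (by
          rw [hval, AddSubgroup.coe_add, hval, hval]; exact add_mul _ _ _)
        zero_smul := fun x => Subtype.ext (by
          rw [hval, AddSubgroup.coe_zero]; exact zero_mul _) }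
    have hS : Scal A (centralSubring hA).subtype :=
      { smul := hval
        comm := fun c a ha => c.2.2 a ha
        surj := fun z hz => ⟨⟨z, hz⟩, rfl⟩ }
    intro x hx y hy
    exact comm_of_smallComm hA hS hsmall ⟨x, hx⟩ ⟨y, hy⟩

/-- The finite Jordan division set is a subfield. -/
theorem IsJord.exists_field {A : AddSubgroup E} (hA : IsJord p A) :
    ∃ R : Subring E, (R : Set E) = A ∧ IsField R := by
  refine ⟨{ A with
    one_mem' := hA.one_mem
    mul_mem' := fun {a b} ha hb => hA.mul_mem_of_comm ha hb (hA.comm a ha b hb) }, rfl, ?_⟩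
  exact hA.isField_of_subring _ (fun x hx => hx) fun x hx y hy => hA.comm x hx y hy

end Cfsg.Agent.Lib.RankOneFF.Jordan
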