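import Cfsg.Agent.Lib.RankOneFF.Pair

/-!
# The offender is a Sylow subgroup with `|A| + 1` conjugates

Continuing from `pairData`: every conjugate of `X` by an element outside `X` is one of the `|A|`
conjugates of `gXg⁻¹` under `A`; so `A` is a maximal `p`-subgroup, `N(A)` controls fusion strongly,
the conjugates of `A` are `A` and the `c g A g⁻¹ c⁻¹`, and they generate the group of `p`-elements.
-/

set_option autoImplicit false

namespace Cfsg.Agent.Lib.RankOneFF

variable {H : Type*} [Group H] [Finite H] {W : Type*} [AddCommGroup W] [Finite W]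
  [DistribMulAction H W] [FaithfulSMul H W] {p : ℕ}

theorem QOff.comm {A : Subgroup H} (hA : QOff p W A) {a b : H} (ha : a ∈ A) (hb : b ∈ A) :
    a * b = b * a :=
  commute_of_series (C := fixW W A) (fun _ hw => hw a ha) (fun _ hw => hw b hb) (hA.quad a ha)
    (hA.quad b hb)

theorem cjS_cjS (a b : H) (A : Subgroup H) : cjS a (cjS b A) = cjS (a * b) A := by
  ext x
  rw [mem_cjS, mem_cjS, mem_cjS]
  group

omit [Finite H] in
theorem cjS_eq_self {h : H} {A : Subgroup H} (hh : h ∈ Subgroup.normalizer (A : Set H)) :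
    cjS h A = A := by
  ext x
  rw [mem_cjS]
  have := (Subgroup.mem_normalizer_iff.mp (Subgroup.inv_mem _ hh) x).symm
  rwa [inv_inv] at this

theorem mem_normalizer_of_cjS_le {h : H} {A : Subgroup H} (hh : cjS h A ≤ A) :
    h ∈ Subgroup.normalizer (A : Set H) := by
  have he : cjS h A = A := Subgroup.eq_of_le_of_card_ge hh (card_cjS h A).ge
  refine Subgroup.mem_normalizer_iff.mpr fun x => ?_
  conv_rhs => rw [← he, mem_cjS]
  rw [show h⁻¹ * (h * x * h⁻¹) * h = x by group]

omit [Finite H] [Finite W] [FaithfulSMul H W] in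
theorem smul_zsmul' (c : H) (m : ℤ) (w : W) : c • (m • w) = m • (c • w) :=
  map_zsmul (DistribSMul.toAddMonoidHom W c) m w

/-- No commutator of `A` lands in the fixed space of an outside conjugate. -/
theorem comm_eq_zero {X A : Subgroup H} {h : H} (hX : SEp p X) (hA : QOff p W A) (hAX : A ≤ X)
    (hh : h ∉ X) {c : H} (hc : c ∈ A) {x : W} (hm : c • x - x ∈ fixW W (cjS h A)) :
    c • x - x = 0 := by
  by_cases hc1 : c = 1
  · rw [hc1, one_smul, sub_self]
  have pd := pairData hX hA hAX hh (W := W)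
  obtain ⟨x1, hx1, x2, hx2, rfl⟩ := pd.sup x
  have e : c • (x1 + x2) - (x1 + x2) = c • x2 - x2 := by
    rw [smul_add, hx1 c hc]; abel
  rw [e] at hm ⊢
  have h2 : c • x2 ∈ fixW W (cjS h A) := by
    have := (fixW W (cjS h A)).add_mem hm hx2
    rwa [sub_add_cancel] at this
  rw [pd.key c hc hc1 x2 hx2 h2 c hc, sub_self]

omit [Finite W] in
theorem pow_smul_sub {A : Subgroup H} (hA : QOff p W A) {c : H} (hc : c ∈ A) (x : W) :
    ∀ k : ℕ, c ^ k • x - x = k • (c • x - x)
  | 0 => by simp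
  | k + 1 => by
    have h1 := hA.quad c hc x (c ^ k) (A.pow_mem hc k)
    rw [smul_sub, ← mul_smul, ← pow_succ] at h1
    rw [succ_nsmul, ← pow_smul_sub hA hc x k, ← h1]
    abel

variable [hp : Fact p.Prime] (hpW : ∀ w : W, p • w = 0) {X A : Subgroup H} {g : H} (hX : SEp p X)
  (hA : QOff p W A) (hAX : A ≤ X) (hg : g ∉ X)
include hpW hX hA hAX hg

/-- The outside cosets of `X` are the `c g X`. -/
theorem cover {h : H} (hh : h ∉ X) : ∃ c ∈ A, (c * g)⁻¹ * h ∈ X := by
  classical
  by_contra hcon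
  push Not at hcon
  have hprime := hp.out
  set q := Nat.card A with hq
  have pd := pairData hX hA hAX hg (W := W)
  have pdh := pairData hX hA hAX hh (W := W)
  have hX' := hX.cjS g
  have hA' := hA.cjS g
  have hginv : g⁻¹ ∉ cjS g X := fun hm => hg (by
    rw [mem_cjS] at hm
    exact X.inv_mem_iff.mp (by simpa using hm))
  -- a commutator of the second offender
  obtain ⟨d, hd, hd1⟩ := (cjS g A).bot_or_exists_ne_one.resolve_left hA'.ne
  obtain ⟨x, hx⟩ : ∃ x : W, d • x ≠ x := by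
    by_contra hcon'
    push Not at hcon'
    exact hd1 (FaithfulSMul.eq_of_smul_eq_smul (α := W) fun w => by rw [hcon', one_smul])
  set y := d • x - x with hy
  have hy0 : y ≠ 0 := sub_ne_zero.mpr hx
  have hyB : y ∈ fixW W (cjS g A) := hA'.quad d hd x
  have hyA : y ∉ fixW W A := by
    intro hm
    refine hy0 (comm_eq_zero hX' hA' (Subgroup.map_mono hAX) hginv hd ?_)
    rwa [cjS_cjS, inv_mul_cancel, cjS_eq_self (Subgroup.one_mem _)]
  -- two elements of the same coset of the third fixed space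
  set Ch := fixW W (cjS h A) with hCh
  have hindex : Nat.card (W ⧸ Ch) ≤ q := by
    refine Nat.le_of_mul_le_mul_right ?_ (Nat.card_pos (α := Ch))
    rw [← AddSubgroup.card_eq_card_quotient_mul_card_addSubgroup]
    exact ((hA.cjS h).off).trans (by rw [card_cjS])
  obtain ⟨⟨i, a⟩, ⟨i', a'⟩, hne, heq⟩ : ∃ u v : Fin p × A, u ≠ v ∧
      (((u.1 : ℕ) • y + ((u.2 : H) • y - y) : W) : W ⧸ Ch) =
        (((v.1 : ℕ) • y + ((v.2 : H) • y - y) : W) : W ⧸ Ch) := by
    by_contra hnone
    push Not at hnone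
    have hle := Nat.card_le_card_of_injective (fun u : Fin p × A =>
      (((u.1 : ℕ) • y + ((u.2 : H) • y - y) : W) : W ⧸ Ch))
      (fun u v huv => by_contra fun hne => hnone u v hne huv)
    rw [Nat.card_prod, Nat.card_fin, ← hq] at hle
    have : 2 * q ≤ p * q := Nat.mul_le_mul_right _ hprime.two_le
    have hqpos : 0 < q := Nat.card_pos
    omega
  rw [QuotientAddGroup.eq_iff_sub_mem] at heq
  set c : H := (a' : H)⁻¹ * a with hc_def
  have hcA : c ∈ A := A.mul_mem (A.inv_mem a'.2) a.2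
  have hcy : (a : H) • y - (a' : H) • y = c • y - y := by
    have h2 := hA.quad c hcA y a' a'.2
    rw [smul_sub, hc_def, ← mul_smul, mul_inv_cancel_left] at h2
    exact h2
  set n : ℤ := (i : ℤ) - (i' : ℤ) with hn
  have hw : n • y + (c • y - y) ∈ Ch := by
    convert heq using 1
    rw [hn, sub_smul, natCast_zsmul, natCast_zsmul, ← hcy]
    abel
  have hyp : ∀ m : ℤ, (p : ℤ) ∣ m → ∀ w : W, m • w = 0 := by
    rintro _ ⟨k, rfl⟩ w
    rw [mul_smul, natCast_zsmul, hpW]
  by_cases hii : i = i'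
  · rw [hn, hii, sub_self, zero_smul, zero_add] at hw
    have h1 := comm_eq_zero hX hA hAX hh hcA hw
    have hc1 : c ≠ 1 := fun hc1 => hne (Prod.ext hii (Subtype.ext (inv_mul_eq_one.mp hc1).symm))
    exact hyA (pd.key c hcA hc1 y hyB (by rw [sub_eq_zero.mp h1]; exact hyB))
  · have hndvd : ¬ (p : ℤ) ∣ n := by
      intro hdvd
      refine hii (Fin.ext ?_)
      have hmod : (i' : ℕ) ≡ (i : ℕ) [MOD p] := Nat.modEq_iff_dvd.mpr (by rw [hn] at hdvd; exact hdvd)
      rw [Nat.ModEq, Nat.mod_eq_of_lt i.2, Nat.mod_eq_of_lt i'.2] at hmod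
      exact hmod.symm
    obtain ⟨k, hk⟩ : ∃ k : ℕ, (p : ℤ) ∣ (k : ℤ) * n - 1 := by
      refine ⟨((n : ZMod p)⁻¹).val, ?_⟩
      rw [← ZMod.intCast_zmod_eq_zero_iff_dvd]
      push_cast
      rw [ZMod.natCast_zmod_val, inv_mul_cancel₀, sub_self]
      rwa [Ne, ZMod.intCast_zmod_eq_zero_iff_dvd]
    set c' := c ^ k with hc'
    have hc'A : c' ∈ A := A.pow_mem hcA k
    have hconv : c' • (n • y) = n • y + (c • y - y) := by
      have h1 := hyp _ hk (c • y - y)
      rw [sub_smul, one_smul, mul_comm, mul_smul, natCast_zsmul, ← pow_smul_sub hA hcA y k,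
        sub_eq_zero] at h1
      rw [← h1, smul_zsmul', hc', ← smul_add, add_sub_cancel]
    have hz : n • y ∈ fixW W (cjS (c'⁻¹ * h) A) := by
      rw [mem_fixW_cjS, mul_inv_rev, inv_inv, mul_smul, hconv]
      exact mem_fixW_cjS.mp hw
    have hout : c'⁻¹ * h * g⁻¹ ∉ cjS g X := by
      intro hm
      rw [mem_cjS] at hm
      refine hcon c' hc'A ?_
      convert hm using 1
      group
    have h2 := comm_eq_zero hX' hA' (Subgroup.map_mono hAX) hout hd (x := n • x) (by
      rw [cjS_cjS, inv_mul_cancel_right, smul_zsmul', ← smul_sub]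
      exact hz)
    rw [smul_zsmul', ← smul_sub] at h2
    refine hy0 ?_
    have h3 := hyp _ hk y
    rwa [sub_smul, one_smul, mul_smul, h2, smul_zero, zero_sub, neg_eq_zero] at h3

/-- `A` is a maximal `p`-subgroup of `X`. -/
theorem eq_of_pGroup_le {L : Subgroup H} (hL : IsPGroup p L) (hAL : A ≤ L) (hLX : L ≤ X) :
    L = A := by
  classical
  have hout : ∀ t : L, (t : H) * g ∉ X := fun t hm => hg (by
    have := X.mul_mem (X.inv_mem (hLX t.2)) hm
    rwa [inv_mul_cancel_left] at this)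
  choose c hc hcX using fun t : L => cover hpW hX hA hAX hg (hout t)
  refine (Subgroup.eq_of_le_of_card_ge hAL (Nat.card_le_card_of_injective
    (fun t : L => (⟨c t, hc t⟩ : A)) fun t t' he => ?_)).symm
  by_contra hne
  have he' : c t = c t' := congrArg Subtype.val he
  have h1 := X.mul_mem (X.inv_mem (hcX t)) (hcX t')
  rw [he'] at h1
  set u : H := (t : H)⁻¹ * t' with hu
  have h2 : g⁻¹ * u * g⁻¹⁻¹ ∈ X := by
    convert h1 using 1
    rw [hu]
    group
  have hu1 : u ≠ 1 := fun h => hne (Subtype.ext (inv_mul_eq_one.mp h))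
  obtain ⟨m, hm⟩ := hL (t⁻¹ * t')
  exact hg (X.inv_mem_iff.mp (hX g⁻¹ u (X.mul_mem (X.inv_mem (hLX t.2)) (hLX t'.2)) hu1
    ⟨m, congrArg Subtype.val hm⟩ h2))

theorem normalizer_le : Subgroup.normalizer (A : Set H) ≤ X := by
  intro u hu
  obtain ⟨a, ha, ha1⟩ := A.bot_or_exists_ne_one.resolve_left hA.ne
  exact hX u a (hAX ha) ha1 (hA.pow_elem ha) (hAX ((Subgroup.mem_normalizer_iff.mp hu a).mp ha))

theorem mem_of_pow_of_normalizer {u : H} (hu : u ∈ Subgroup.normalizer (A : Set H))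
    (hup : ∃ n : ℕ, u ^ p ^ n = 1) : u ∈ A := by
  obtain ⟨n, hn⟩ := hup
  have hZ : IsPGroup p (Subgroup.zpowers u) := by
    rintro ⟨x, hx⟩
    obtain ⟨k, rfl⟩ := Subgroup.mem_zpowers_iff.mp hx
    refine ⟨n, Subtype.ext ?_⟩
    rw [SubgroupClass.coe_pow, Subgroup.coe_one, ← zpow_natCast, ← zpow_mul, mul_comm, zpow_mul,
      zpow_natCast, hn, one_zpow]
  have hL := hZ.to_sup_of_normal_right' hA.pgroup (Subgroup.zpowers_le.mpr hu)
  have := eq_of_pGroup_le hpW hX hA hAX hg hL le_sup_right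
    (sup_le (Subgroup.zpowers_le.mpr (normalizer_le hpW hX hA hAX hg hu)) hAX)
  rw [← this]
  exact Subgroup.mem_sup_left (Subgroup.mem_zpowers u)

theorem fix_eq {a : H} (ha : a ∈ A) (ha1 : a ≠ 1) {w : W} (hw : a • w = w) : w ∈ fixW W A := by
  have pd := pairData hX hA hAX hg (W := W)
  obtain ⟨c, hc, c', hc', rfl⟩ := pd.sup w
  rw [smul_add, hc a ha, add_right_inj] at hw
  exact (fixW W A).add_mem hc (pd.key a ha ha1 c' hc' (by rw [hw]; exact hc'))

theorem centralizer_le {a : H} (ha : a ∈ A) (ha1 : a ≠ 1) {u : H} (hu : u * a = a * u) :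
    u ∈ Subgroup.normalizer (A : Set H) := by
  have huX : u ∈ X := hX u a (hAX ha) ha1 (hA.pow_elem ha) (by
    rw [hu, mul_inv_cancel_right]; exact hAX ha)
  have hfix : fixW W (cjS u A) = fixW W A := by
    ext w
    rw [mem_fixW_cjS]
    constructor
    · intro h
      refine fix_eq hpW hX hA hAX hg ha ha1 ?_
      have h1 := h a ha
      rw [← mul_smul] at h1
      have h2 := congrArg (u • ·) h1
      simp only [← mul_smul] at h2
      rwa [← mul_assoc, hu, mul_inv_cancel_right, mul_inv_cancel, one_smul] at h2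
    · intro h
      refine fix_eq hpW hX hA hAX hg ha ha1 ?_
      have e : a * u⁻¹ = u⁻¹ * a := by
        rw [eq_inv_mul_iff_mul_eq, ← mul_assoc, hu, mul_inv_cancel_right]
      rw [← mul_smul, e, mul_smul, h a ha]
  have hA' := hA.cjS u
  have hcomm : ∀ x ∈ cjS u A, ∀ z ∈ A, x * z = z * x := fun x hx z hz =>
    commute_of_series (C := fixW W A) (fun w hw => (hfix.symm ▸ hw : w ∈ fixW W (cjS u A)) x hx)
      (fun w hw => hw z hz) (fun w => hfix ▸ hA'.quad x hx w) (hA.quad z hz)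
  have hle : cjS u A ≤ Subgroup.normalizer (A : Set H) := fun x hx =>
    Subgroup.centralizer_le_normalizer _ (Subgroup.mem_centralizer_iff.mpr
      fun z hz => (hcomm x hx z hz).symm)
  refine mem_normalizer_of_cjS_le fun x hx => ?_
  exact mem_of_pow_of_normalizer hpW hX hA hAX hg (hle hx) (hA'.pow_elem hx)

theorem sep_normalizer : SEp p (Subgroup.normalizer (A : Set H)) := by
  intro h u hu hu1 hup hhu
  have huA := mem_of_pow_of_normalizer hpW hX hA hAX hg hu hup
  have hwA : h * u * h⁻¹ ∈ A := mem_of_pow_of_normalizer hpW hX hA hAX hg hhu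
    (hup.imp fun n hn => by rw [conj_pow, hn, mul_one, mul_inv_cancel])
  refine mem_normalizer_of_cjS_le ?_
  rintro _ ⟨z, hz, rfl⟩
  refine mem_of_pow_of_normalizer hpW hX hA hAX hg ?_
    ((hA.pow_elem hz).imp fun n hn => by
      rw [← map_pow, hn, map_one])
  refine centralizer_le hpW hX hA hAX hg hwA (fun h1 => hu1 (conj_eq_one_iff.mp h1)) ?_
  show h * z * h⁻¹ * (h * u * h⁻¹) = h * u * h⁻¹ * (h * z * h⁻¹)
  calc h * z * h⁻¹ * (h * u * h⁻¹) = h * (z * u) * h⁻¹ := by group
    _ = h * (u * z) * h⁻¹ := by rw [hA.comm hz huA]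
    _ = _ := by group

/-- The conjugates of `A`. -/
theorem cjS_cases (h : H) : cjS h A = A ∨ ∃ c ∈ A, cjS h A = cjS c (cjS g A) := by
  by_cases hh : h ∈ Subgroup.normalizer (A : Set H)
  · exact Or.inl (cjS_eq_self hh)
  · right
    have hgN : g ∉ Subgroup.normalizer (A : Set H) := fun hm => hg (normalizer_le hpW hX hA hAX hg hm)
    obtain ⟨c, hc, hm⟩ := cover hpW (sep_normalizer hpW hX hA hAX hg) hA Subgroup.le_normalizer hgN hh
    refine ⟨c, hc, ?_⟩
    conv_lhs => rw [show h = c * g * ((c * g)⁻¹ * h) by group, ← cjS_cjS, cjS_eq_self hm]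
    rw [cjS_cjS]

/-- Every `p`-element lies in a conjugate of `A`. -/
theorem exists_cjS_of_pow {u : H} (hu : ∃ n : ℕ, u ^ p ^ n = 1) : ∃ h, u ∈ cjS h A := by
  obtain ⟨S, hS⟩ := hA.pgroup.exists_le_sylow
  have hSA : (S : Subgroup H) = A := by
    by_contra hne
    have hlt : A < (S : Subgroup H) := lt_of_le_of_ne hS (Ne.symm hne)
    haveI := S.2.isNilpotent
    have h1 := Group.normalizerCondition_of_isNilpotent (A.subgroupOf (S : Subgroup H))
      (lt_top_iff_ne_top.mpr fun htop => hne (le_antisymm (Subgroup.subgroupOf_eq_top.mp htop) hS))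
    obtain ⟨v, hv, hvA⟩ := SetLike.exists_of_lt h1
    refine hvA (mem_of_pow_of_normalizer hpW hX hA hAX hg ?_
      ((S.2 v).imp fun n hn => congrArg Subtype.val hn))
    refine Subgroup.mem_normalizer_iff.mpr fun z => ?_
    constructor
    · intro hz
      exact (Subgroup.mem_normalizer_iff.mp hv ⟨z, hS hz⟩).mp hz
    · intro hz
      have hzS : z ∈ (S : Subgroup H) := by
        have h2 := (S : Subgroup H).mul_mem ((S : Subgroup H).mul_mem
          ((S : Subgroup H).inv_mem v.2) (hS hz)) v.2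
        simpa [mul_assoc] using h2
      exact (Subgroup.mem_normalizer_iff.mp hv ⟨z, hzS⟩).mpr hz
  obtain ⟨n, hn⟩ := hu
  have hZ : IsPGroup p (Subgroup.zpowers u) := by
    rintro ⟨x, hx⟩
    obtain ⟨k, rfl⟩ := Subgroup.mem_zpowers_iff.mp hx
    refine ⟨n, Subtype.ext ?_⟩
    rw [SubgroupClass.coe_pow, Subgroup.coe_one, ← zpow_natCast, ← zpow_mul, mul_comm, zpow_mul,
      zpow_natCast, hn, one_zpow]
  obtain ⟨P, hP⟩ := hZ.exists_le_sylow
  obtain ⟨h, hh⟩ := MulAction.exists_smul_eq H S P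
  refine ⟨h, ?_⟩
  have hu' : u ∈ (P : Subgroup H) := hP (Subgroup.mem_zpowers u)
  rw [← hh] at hu'
  obtain ⟨z, hz, rfl⟩ := hu'
  exact ⟨z, hSA ▸ hz, rfl⟩

/-- The two conjugates generate the `p`-elements. -/
theorem pow_mem_sup {u : H} (hu : ∃ n : ℕ, u ^ p ^ n = 1) : u ∈ A ⊔ cjS g A := by
  obtain ⟨h, hh⟩ := exists_cjS_of_pow hpW hX hA hAX hg hu
  rcases cjS_cases hpW hX hA hAX hg h with he | ⟨c, hc, he⟩
  · exact Subgroup.mem_sup_left (he ▸ hh)
  · rw [he] at hh
    obtain ⟨z, hz, rfl⟩ := hh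
    exact Subgroup.mul_mem _ (Subgroup.mul_mem _ (Subgroup.mem_sup_left hc)
      (Subgroup.mem_sup_right hz)) (Subgroup.inv_mem _ (Subgroup.mem_sup_left hc))

end Cfsg.Agent.Lib.RankOneFF
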