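import Mathlib

/-!
# An automorphism of primitive prime order of a finite vector space

`K` is finite with `Q` elements, `M` has dimension `n`, `r` is a prime dividing `Q ^ k - 1` only for
multiples `k` of `n`, and `d ≠ 1` is linear with `d ^ r = 1`.  Then `d` is irreducible, its commutant
is commutative without zero divisors, and an element normalising `⟨d⟩` whose square powers reach the
commutant in odd dimension commutes with `d`.
-/

set_option autoImplicit false

namespace Cfsg.Agent.Lib.RankOneFF.Irreducible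

open Polynomial

variable {K : Type*} [Field K] [Finite K] {M : Type*} [AddCommGroup M] [Module K M] [Finite M]

/-- The primitivity of `r` in dimension `n`. -/
def Primitive (r : ℕ) (K : Type*) (n : ℕ) : Prop :=
  ∀ k : ℕ, r ∣ Nat.card K ^ k - 1 → n ∣ k

/-- A set stable under a map of prime period `r`, all whose fixed points in it are zero, has size
congruent to one modulo `r`. -/
theorem dvd_card_sub_one {r : ℕ} (hr : r.Prime) (d : M ≃ₗ[K] M) (hd : d ^ r = 1)
    (W : Submodule K M) (hW : ∀ w ∈ W, d w ∈ W) (hfix : ∀ w ∈ W, d w = w → w = 0) :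
    r ∣ Nat.card W - 1 := by
  have hfr : Fact r.Prime := ⟨hr⟩
  have hpow : ∀ k : ℕ, ∀ w ∈ W, (d ^ k : M ≃ₗ[K] M) w ∈ W := by
    intro k
    induction k with
    | zero => intro w hw; simpa using hw
    | succ k ih => intro w hw; rw [pow_succ']; exact hW _ (ih w hw)
  let P : Subgroup (M ≃ₗ[K] M) := Subgroup.zpowers d
  have hP : IsPGroup r P := by
    rintro ⟨x, hx⟩
    obtain ⟨k, rfl⟩ := Subgroup.mem_zpowers_iff.mp hx
    refine ⟨1, Subtype.ext ?_⟩
    rw [pow_one, SubgroupClass.coe_pow, Subgroup.coe_one, ← zpow_natCast, ← zpow_mul, mul_comm,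
      zpow_mul, zpow_natCast, hd, one_zpow]
  have hmem : ∀ x : P, ∀ w ∈ W, (x : M ≃ₗ[K] M) w ∈ W := by
    rintro ⟨x, hx⟩ w hw
    have hfin : IsOfFinOrder d := isOfFinOrder_iff_pow_eq_one.mpr ⟨r, hr.pos, hd⟩
    obtain ⟨k, rfl⟩ := hfin.mem_powers_iff_mem_zpowers.mpr hx
    exact hpow k w hw
  letI : MulAction P W :=
    { smul := fun x w => ⟨(x : M ≃ₗ[K] M) w, hmem x w w.2⟩
      one_smul := fun w => Subtype.ext rfl
      mul_smul := fun x y w => Subtype.ext rfl }
  have h := hP.card_modEq_card_fixedPoints (α := W)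
  have h1 : Nat.card (MulAction.fixedPoints P W) = 1 := by
    refine Nat.card_eq_one_iff_unique.mpr ⟨⟨fun a b => ?_⟩, ⟨⟨0, fun x => ?_⟩⟩⟩
    · have ha : ∀ w : MulAction.fixedPoints P W, (w : W) = 0 := fun w => Subtype.ext
        (hfix _ (w : W).2 (congrArg Subtype.val (w.2 ⟨d, Subgroup.mem_zpowers d⟩)))
      exact Subtype.ext ((ha a).trans (ha b).symm)
    · exact Subtype.ext (LinearEquiv.map_zero (x : M ≃ₗ[K] M))
  rw [h1] at h
  exact (Nat.modEq_iff_dvd' Nat.card_pos).mp h.symm

variable {r : ℕ} {d : M ≃ₗ[K] M}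

/-- The inclusion of the automorphisms into the endomorphisms. -/
def toEnd : (M ≃ₗ[K] M) →* Module.End K M where
  toFun f := f.toLinearMap
  map_one' := rfl
  map_mul' _ _ := rfl

/-- `d` has no nonzero fixed vector. -/
theorem eq_zero_of_fixed (hr : r.Prime) (hK : ¬ (r : K) = 0)
    (hprim : Primitive r K (Module.finrank K M)) (hd : d ^ r = 1) (hd1 : d ≠ 1) {x : M}
    (hx : d x = x) : x = 0 := by
  set f : M →ₗ[K] M := d.toLinearMap - LinearMap.id with hf
  have hfx : ∀ v, f v = d v - v := fun v => rfl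
  by_contra hx0
  set R := LinearMap.range f
  have hR : ∀ w ∈ R, d w ∈ R := by
    rintro w ⟨v, rfl⟩
    exact ⟨d v, by rw [hfx, hfx, map_sub]⟩
  have hfix : ∀ w ∈ R, d w = w → w = 0 := by
    rintro w ⟨v, rfl⟩ hw
    have hk : ∀ k : ℕ, (d ^ k : M ≃ₗ[K] M) v = v + k • f v := by
      intro k
      induction k with
      | zero => simp
      | succ k ih =>
        rw [pow_succ']
        show d ((d ^ k : M ≃ₗ[K] M) v) = _
        rw [ih, map_add, map_nsmul, hw, succ_nsmul, hfx]
        abel
    have h := hk r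
    rw [hd] at h
    have h2 : (r : K) • f v = 0 := by
      rw [Nat.cast_smul_eq_nsmul]
      exact (left_eq_add.mp h)
    exact (smul_eq_zero.mp h2).resolve_left hK
  have hdvd := dvd_card_sub_one hr d hd R hR hfix
  have : FiniteDimensional K M := Module.Finite.of_finite
  rw [Module.natCard_eq_pow_finrank (K := K)] at hdvd
  have hn := hprim _ hdvd
  have hlt : Module.finrank K R < Module.finrank K M := by
    refine Submodule.finrank_lt ?_
    intro htop
    have hinj : Function.Injective f :=
      LinearMap.injective_iff_surjective.mpr (LinearMap.range_eq_top.mp htop)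
    exact hx0 (hinj (by rw [map_zero, hfx, hx, sub_self]))
  have h0 : Module.finrank K R = 0 := Nat.eq_zero_of_dvd_of_lt hn hlt
  have hbot : R = ⊥ := Submodule.finrank_eq_zero.mp h0
  refine hd1 (LinearEquiv.ext fun v => sub_eq_zero.mp ?_)
  have : f v ∈ R := LinearMap.mem_range_self f v
  rw [hbot, Submodule.mem_bot] at this
  exact this

/-- `d` stabilises no proper nonzero subspace. -/
theorem eq_bot_or_top (hr : r.Prime) (hK : ¬ (r : K) = 0)
    (hprim : Primitive r K (Module.finrank K M)) (hd : d ^ r = 1) (hd1 : d ≠ 1)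
    (W : Submodule K M) (hW : ∀ w ∈ W, d w ∈ W) : W = ⊥ ∨ W = ⊤ := by
  have hdvd := dvd_card_sub_one hr d hd W hW fun w _ hw => eq_zero_of_fixed hr hK hprim hd hd1 hw
  have : FiniteDimensional K M := Module.Finite.of_finite
  rw [Module.natCard_eq_pow_finrank (K := K)] at hdvd
  have hn := hprim _ hdvd
  rcases Nat.lt_or_ge (Module.finrank K W) (Module.finrank K M) with h | h
  · exact Or.inl (Submodule.finrank_eq_zero.mp (Nat.eq_zero_of_dvd_of_lt hn h))
  · exact Or.inr (Submodule.eq_top_of_finrank_eq (le_antisymm (Submodule.finrank_le W) h))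

/-- A commuting endomorphism is injective or zero. -/
theorem commutant_eq_zero (hr : r.Prime) (hK : ¬ (r : K) = 0)
    (hprim : Primitive r K (Module.finrank K M)) (hd : d ^ r = 1) (hd1 : d ≠ 1)
    {h : Module.End K M} (hc : ∀ v, h (d v) = d (h v)) {x : M} (hx : x ≠ 0) (hhx : h x = 0) :
    h = 0 := by
  rcases eq_bot_or_top hr hK hprim hd hd1 (LinearMap.ker h) (fun w hw => by
    rw [LinearMap.mem_ker] at hw ⊢; rw [hc, hw, map_zero]) with h1 | h1
  · exact absurd ((Submodule.mem_bot K).mp (h1 ▸ (LinearMap.mem_ker.mpr hhx))) hx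
  · exact LinearMap.ker_eq_top.mp h1

/-- A commuting endomorphism is a polynomial in `d`. -/
theorem exists_aeval (hr : r.Prime) (hK : ¬ (r : K) = 0)
    (hprim : Primitive r K (Module.finrank K M)) (hd : d ^ r = 1) (hd1 : d ≠ 1)
    {h : Module.End K M} (hc : ∀ v, h (d v) = d (h v)) :
    ∃ f : K[X], h = aeval (d.toLinearMap : Module.End K M) f := by
  rcases subsingleton_or_nontrivial M with hM | hM
  · exact ⟨0, LinearMap.ext fun v => Subsingleton.elim _ _⟩
  obtain ⟨x, hx⟩ := exists_ne (0 : M)
  set D : Module.End K M := d.toLinearMap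
  let e : K[X] →ₗ[K] M := (LinearMap.applyₗ x).comp (aeval D).toLinearMap
  have he : ∀ g : K[X], e g = aeval D g x := fun g => rfl
  rcases eq_bot_or_top hr hK hprim hd hd1 (LinearMap.range e) (fun w hw => by
    obtain ⟨g, rfl⟩ := hw
    refine ⟨X * g, ?_⟩
    rw [he, he, map_mul, aeval_X]
    rfl) with h1 | h1
  · exfalso
    have h2 : e 1 = 0 := (Submodule.mem_bot K).mp (h1 ▸ LinearMap.mem_range_self e 1)
    rw [he, map_one] at h2
    exact hx h2
  obtain ⟨g, hg⟩ : h x ∈ LinearMap.range e := h1 ▸ Submodule.mem_top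
  refine ⟨g, sub_eq_zero.mp (commutant_eq_zero hr hK hprim hd hd1 (fun v => ?_) hx ?_)⟩
  · have hcomm : Commute (aeval D g) D := by
      have h2 : Commute (aeval D g) (aeval D (X : K[X])) := (Commute.all g X).map (aeval D)
      rwa [aeval_X] at h2
    rw [LinearMap.sub_apply, LinearMap.sub_apply, map_sub, hc]
    congr 1
    exact LinearMap.congr_fun hcomm.eq v
  · rw [LinearMap.sub_apply, ← he, hg, sub_self]

/-- The commutant of `d` is commutative. -/
theorem commutant_comm (hr : r.Prime) (hK : ¬ (r : K) = 0)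
    (hprim : Primitive r K (Module.finrank K M)) (hd : d ^ r = 1) (hd1 : d ≠ 1)
    {h h' : Module.End K M} (hc : ∀ v, h (d v) = d (h v)) (hc' : ∀ v, h' (d v) = d (h' v)) :
    h * h' = h' * h := by
  obtain ⟨f, rfl⟩ := exists_aeval hr hK hprim hd hd1 hc
  obtain ⟨g, rfl⟩ := exists_aeval hr hK hprim hd hd1 hc'
  rw [← map_mul, ← map_mul, mul_comm]

/-- In the commutant the only `r`-th roots of unity are the powers of `d`. -/
theorem exists_pow_eq (hr : r.Prime) (hK : ¬ (r : K) = 0)
    (hprim : Primitive r K (Module.finrank K M)) (hd : d ^ r = 1) (hd1 : d ≠ 1)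
    {h : M ≃ₗ[K] M} (hc : h * d = d * h) (hh : h ^ r = 1) : ∃ i : ℕ, h = d ^ i := by
  rcases subsingleton_or_nontrivial M with hM | hM
  · exact absurd (LinearEquiv.ext fun v => Subsingleton.elim _ _) hd1
  let S : Subalgebra K (Module.End K M) :=
    Subalgebra.centralizer K {(d.toLinearMap : Module.End K M)}
  have hS : ∀ a : S, ∀ v, (a : Module.End K M) (d v) = d ((a : Module.End K M) v) := fun a v =>
    (LinearMap.congr_fun (Subalgebra.mem_centralizer_iff K |>.mp a.2 _ rfl) v).symm
  letI : CommRing S := { (inferInstance : Ring S) with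
    mul_comm := fun a b => Subtype.ext (commutant_comm hr hK hprim hd hd1 (hS a) (hS b)) }
  haveI : Nontrivial S := ⟨⟨0, 1, fun h01 => zero_ne_one (congrArg Subtype.val h01)⟩⟩
  haveI : NoZeroDivisors S := ⟨fun {a b} hab => by
    by_cases hb : b = 0
    · exact Or.inr hb
    · left
      obtain ⟨v, hv⟩ : ∃ v, (b : Module.End K M) v ≠ 0 := by
        by_contra hcon
        push Not at hcon
        exact hb (Subtype.ext (LinearMap.ext fun v => by simpa using hcon v))
      exact Subtype.ext (commutant_eq_zero hr hK hprim hd hd1 (hS a) hv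
        (LinearMap.congr_fun (congrArg Subtype.val hab) v))⟩
  haveI : IsDomain S := NoZeroDivisors.to_isDomain S
  let φ : (M ≃ₗ[K] M) →* Module.End K M :=
    { toFun := fun f => f.toLinearMap, map_one' := rfl, map_mul' := fun _ _ => rfl }
  have hφ : ∀ f : M ≃ₗ[K] M, f * d = d * f → φ f ∈ S := fun f hf => by
    rw [Subalgebra.mem_centralizer_iff]
    rintro _ rfl
    exact (congrArg φ hf).symm
  let ζ : S := ⟨φ d, hφ d rfl⟩
  have hζ : IsPrimitiveRoot ζ r := by
    refine IsPrimitiveRoot.iff_orderOf.mpr ?_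
    rw [← Subalgebra.coe_val] at *
    have h1 : orderOf ζ = orderOf d := by
      rw [← orderOf_injective (S.val : S →* Module.End K M) Subtype.val_injective ζ]
      exact orderOf_injective φ (fun f g hfg => LinearEquiv.toLinearMap_injective hfg) d
    rw [h1]
    haveI : Fact r.Prime := ⟨hr⟩
    exact orderOf_eq_prime hd hd1
  haveI : NeZero r := ⟨hr.ne_zero⟩
  obtain ⟨i, -, hi⟩ := hζ.eq_pow_of_pow_eq_one (ξ := (⟨φ h, hφ h hc⟩ : S))
    (Subtype.ext (by rw [SubmonoidClass.coe_pow, ← map_pow, hh, map_one]; rfl))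
  refine ⟨i, LinearEquiv.toLinearMap_injective ?_⟩
  have := congrArg Subtype.val hi
  rw [SubmonoidClass.coe_pow, ← map_pow] at this
  exact this.symm

/-- In odd dimension an automorphism of `2`-power action on `⟨d⟩` centralises `d`. -/
theorem commute_of_normalize (hr : r.Prime) (hK : ¬ (r : K) = 0)
    (hprim : Primitive r K (Module.finrank K M)) (hd : d ^ r = 1) (hd1 : d ≠ 1)
    (hn : Odd (Module.finrank K M)) {h : M ≃ₗ[K] M} {t a : ℕ} (ht : h * d * h⁻¹ = d ^ t)
    (ha : Commute (h ^ 2 ^ a) d) : h * d = d * h := by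
  classical
  rcases subsingleton_or_nontrivial M with hM | hM
  · exact absurd (LinearEquiv.ext fun v => Subsingleton.elim _ _) hd1
  have hFD : FiniteDimensional K M := Module.Finite.of_finite
  have := Fintype.ofFinite K
  set n := Module.finrank K M with hn_def
  set Q := Nat.card K with hQ
  set D : Module.End K M := d.toLinearMap with hD
  set m := minpoly K D with hm
  have hint : IsIntegral K D := Algebra.IsIntegral.isIntegral D
  let S : Subalgebra K (Module.End K M) :=
    Subalgebra.centralizer K {(d.toLinearMap : Module.End K M)}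
  have hS : ∀ a : S, ∀ v, (a : Module.End K M) (d v) = d ((a : Module.End K M) v) := fun a v =>
    (LinearMap.congr_fun (Subalgebra.mem_centralizer_iff K |>.mp a.2 _ rfl) v).symm
  letI : CommRing S := { (inferInstance : Ring S) with
    mul_comm := fun a b => Subtype.ext (commutant_comm hr hK hprim hd hd1 (hS a) (hS b)) }
  haveI : Nontrivial S := ⟨⟨0, 1, fun h01 => zero_ne_one (congrArg Subtype.val h01)⟩⟩
  haveI : NoZeroDivisors S := ⟨fun {a b} hab => by
    by_cases hb : b = 0
    · exact Or.inr hb
    · left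
      obtain ⟨v, hv⟩ : ∃ v, (b : Module.End K M) v ≠ 0 := by
        by_contra hcon
        push Not at hcon
        exact hb (Subtype.ext (LinearMap.ext fun v => by simpa using hcon v))
      exact Subtype.ext (commutant_eq_zero hr hK hprim hd hd1 (hS a) hv
        (LinearMap.congr_fun (congrArg Subtype.val hab) v))⟩
  haveI : IsDomain S := NoZeroDivisors.to_isDomain S
  have hDS : D ∈ S := by rw [Subalgebra.mem_centralizer_iff]; rintro _ rfl; rfl
  set ζ : S := ⟨D, hDS⟩
  have hval : ∀ g : K[X], ((aeval ζ g : S) : Module.End K M) = aeval D g := fun g => by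
    rw [← Subalgebra.coe_val, ← aeval_algHom_apply]; rfl
  have hroot0 : aeval ζ m = 0 := Subtype.ext (by rw [hval, hm, minpoly.aeval]; rfl)
  -- the conjugates under the Frobenius map
  have hfrob : ∀ k : ℕ, aeval (ζ ^ Q ^ k) m = 0 := by
    intro k
    induction k with
    | zero => rwa [pow_zero, pow_one]
    | succ k ih =>
      rw [pow_succ, pow_mul, ← expand_aeval, hQ, Nat.card_eq_fintype_card, FiniteField.expand_card,
        map_pow, ← Nat.card_eq_fintype_card, ← hQ, ih, zero_pow (Nat.card_pos.ne')]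
  have hm0 : m ≠ 0 := minpoly.ne_zero hint
  have hdeg : m.natDegree ≤ n := by
    calc m.natDegree ≤ (D.charpoly).natDegree :=
          natDegree_le_of_dvd (LinearMap.minpoly_dvd_charpoly D) (LinearMap.charpoly_monic D).ne_zero
      _ = n := LinearMap.charpoly_natDegree D
  haveI : Fact r.Prime := ⟨hr⟩
  have hord : orderOf ζ = r := orderOf_eq_prime
    (Subtype.ext (by
      rw [SubmonoidClass.coe_pow]
      exact LinearMap.ext fun v => by
        have := LinearEquiv.congr_fun hd v
        rw [Module.End.coe_pow]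
        have e : ∀ k : ℕ, (⇑D)^[k] v = (d ^ k : M ≃ₗ[K] M) v := by
          intro k
          induction k with
          | zero => rfl
          | succ k ih => rw [Function.iterate_succ_apply', ih, pow_succ']; rfl
        rw [e]; exact this))
    (fun h1 => hd1 (LinearEquiv.toLinearMap_injective (congrArg Subtype.val h1)))
  have hfin : IsOfFinOrder ζ := orderOf_pos_iff.mp (hord ▸ hr.pos)
  let T : Finset S := (Finset.range n).image fun k => ζ ^ Q ^ k
  have hQr : ¬ r ∣ Q := by
    intro hdvd
    obtain ⟨p, hp⟩ := CharP.exists K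
    obtain ⟨e, hpp, hcard⟩ := FiniteField.card K p
    rw [hQ, Nat.card_eq_fintype_card, hcard] at hdvd
    have := (Nat.prime_dvd_prime_iff_eq hr hpp).mp (hr.dvd_of_dvd_pow hdvd)
    subst this
    exact hK (CharP.cast_eq_zero K r)
  have hTinj : T.card = n := by
    rw [Finset.card_image_of_injOn, Finset.card_range]
    intro i hi j hj hij
    rw [Finset.coe_range, Set.mem_Iio] at hi hj
    simp only at hij
    rw [hfin.pow_eq_pow_iff_modEq, hord] at hij
    wlog hle : i ≤ j generalizing i j
    · exact (this hj hi hij.symm (le_of_not_ge hle)).symm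
    have h2 : r ∣ Q ^ i * (Q ^ (j - i) - 1) := by
      rw [Nat.mul_sub, mul_one, ← pow_add, Nat.add_sub_cancel' hle]
      exact (Nat.modEq_iff_dvd' (Nat.pow_le_pow_right Nat.card_pos hle)).mp hij
    rcases hr.dvd_mul.mp h2 with h3 | h3
    · exact absurd (hr.dvd_of_dvd_pow h3) hQr
    · have := Nat.eq_zero_of_dvd_of_lt (hprim _ h3) (by omega)
      omega
  have hTroots : T.val ⊆ (m.map (algebraMap K S)).roots := by
    intro x hx
    rw [Finset.mem_val, Finset.mem_image] at hx
    obtain ⟨k, -, rfl⟩ := hx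
    rw [mem_roots ((Polynomial.map_ne_zero_iff (algebraMap K S).injective).mpr hm0), IsRoot.def,
      eval_map_algebraMap, hfrob]
  -- `h` maps the root `d` to a root
  have ht0 : aeval (ζ ^ t) m = 0 := by
    refine Subtype.ext ?_
    have hconj : ∀ g : K[X], aeval ((d ^ t : M ≃ₗ[K] M).toLinearMap : Module.End K M) g =
        h.toLinearMap * aeval D g * (h⁻¹ : M ≃ₗ[K] M).toLinearMap := by
      intro g
      induction g using Polynomial.induction_on' with
      | add a b ha hb => rw [map_add, map_add, ha, hb, mul_add, add_mul]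
      | monomial k c =>
        rw [aeval_monomial, aeval_monomial, ← ht]
        have e : ∀ k : ℕ, ((h * d * h⁻¹ : M ≃ₗ[K] M).toLinearMap : Module.End K M) ^ k =
            h.toLinearMap * D ^ k * (h⁻¹ : M ≃ₗ[K] M).toLinearMap := by
          intro k
          induction k with
          | zero =>
            rw [pow_zero, pow_zero, mul_one]
            exact (congrArg LinearEquiv.toLinearMap (mul_inv_cancel h)).symm
          | succ k ih =>
            rw [pow_succ, pow_succ, ih]
            refine LinearMap.ext fun v => ?_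
            simp [hD, Module.End.mul_apply, LinearEquiv.mul_apply]
        rw [e, ← mul_assoc, ← mul_assoc, ← mul_assoc, Algebra.commutes]
    rw [show (ζ ^ t : S) = ⟨((d ^ t : M ≃ₗ[K] M).toLinearMap : Module.End K M), by
      rw [Subalgebra.mem_centralizer_iff]; rintro _ rfl
      exact congrArg LinearEquiv.toLinearMap ((Commute.self_pow d t).eq)⟩ from Subtype.ext (by
        rw [SubmonoidClass.coe_pow]
        exact (map_pow (toEnd (K := K) (M := M)) d t).symm)]
    rw [← Subalgebra.coe_val, ← aeval_algHom_apply]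
    show aeval ((d ^ t : M ≃ₗ[K] M).toLinearMap : Module.End K M) m = 0
    rw [hconj, hm, minpoly.aeval, mul_zero, zero_mul]
  have htmem : ζ ^ t ∈ T := by
    by_contra hnot
    have hsub : (insert (ζ ^ t) T).val ⊆ (m.map (algebraMap K S)).roots := by
      intro x hx
      rw [Finset.mem_val, Finset.mem_insert] at hx
      rcases hx with rfl | hx
      · rw [mem_roots ((Polynomial.map_ne_zero_iff (algebraMap K S).injective).mpr hm0), IsRoot.def,
          eval_map_algebraMap, ht0]
      · exact hTroots hx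
    have := card_le_degree_of_subset_roots hsub
    rw [Finset.card_insert_of_notMem hnot, hTinj, natDegree_map] at this
    omega
  obtain ⟨k, -, hk⟩ := Finset.mem_image.mp htmem
  rw [hfin.pow_eq_pow_iff_modEq, hord] at hk
  -- iterate
  have hiter : ∀ i : ℕ, h ^ i * d * (h ^ i)⁻¹ = d ^ (Q ^ (k * i)) := by
    intro i
    induction i with
    | zero => simp
    | succ i ih =>
      have e : h * d * h⁻¹ = d ^ (Q ^ k) := by
        rw [ht, pow_eq_pow_iff_modEq, orderOf_eq_prime hd hd1]; exact hk.symm
      calc h ^ (i + 1) * d * (h ^ (i + 1))⁻¹ = h * (h ^ i * d * (h ^ i)⁻¹) * h⁻¹ := by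
            rw [pow_succ']; group
        _ = (h * d * h⁻¹) ^ Q ^ (k * i) := by rw [ih, conj_pow]
        _ = _ := by rw [e, ← pow_mul, ← pow_add]; ring_nf
  have h1 : d ^ (Q ^ (k * 2 ^ a)) = d := by rw [← hiter, ha.eq, mul_inv_cancel_right]
  have h2 : r ∣ Q ^ (k * 2 ^ a) - 1 := by
    rw [← orderOf_eq_prime hd hd1]
    refine orderOf_dvd_iff_pow_eq_one.mpr ?_
    rw [pow_sub _ (Nat.one_le_pow _ _ Nat.card_pos), h1, pow_one, mul_inv_cancel]
  have hdvd : n ∣ k := by
    refine Nat.Coprime.dvd_of_dvd_mul_right ?_ (hprim _ h2)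
    exact Nat.Coprime.pow_right a (Nat.coprime_two_right.mpr hn)
  obtain ⟨c, hc⟩ := hdvd
  have hQn : r ∣ Q ^ n - 1 := by
    have h3 := dvd_card_sub_one hr d hd ⊤ (fun w _ => Submodule.mem_top)
      (fun w _ hw => eq_zero_of_fixed hr hK hprim hd hd1 hw)
    rwa [Nat.card_congr (Submodule.topEquiv (R := K) (M := M)).toEquiv,
      Module.natCard_eq_pow_finrank (K := K)] at h3
  have h4 : d ^ (Q ^ k) = d := by
    conv_rhs => rw [← pow_one d]
    rw [pow_eq_pow_iff_modEq, orderOf_eq_prime hd hd1, hc, pow_mul]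
    have := ((Nat.modEq_iff_dvd' (Nat.one_le_pow _ _ Nat.card_pos)).mpr hQn).symm.pow c
    rwa [one_pow] at this
  have e : h * d * h⁻¹ = d := by
    rw [ht]
    refine Eq.trans ?_ h4
    rw [pow_eq_pow_iff_modEq, orderOf_eq_prime hd hd1]
    exact hk.symm
  calc h * d = h * d * h⁻¹ * h := by group
    _ = d * h := by rw [e]

end Cfsg.Agent.Lib.RankOneFF.Irreducible
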