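import Mathlib

/-!
# Finite Jordan division sets in odd characteristic: the elementary part

`A` is an additive group of elements of a finite ring `E` of odd prime characteristic `p`, containing
`1`, in which every nonzero element has its inverse in `A`.  `A` is closed under `a ↦ a * b * a`,
and a commuting pair of `A` has its product in `A`.  The subfield generated by central elements and
one element is recorded together with the facts on square roots that drive the proof of
commutativity in `Lib.RankOneFF.JordanComm`.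
-/

set_option autoImplicit false

namespace Cfsg.Agent.Lib.RankOneFF.Jordan

variable {E : Type*} [Ring E]

/-- The hypotheses: odd prime characteristic, `1 ∈ A`, inverses. -/
structure IsJord (p : ℕ) (A : AddSubgroup E) : Prop where
  prime : p.Prime
  odd : p ≠ 2
  char : (p : E) = 0
  one_mem : (1 : E) ∈ A
  inv : ∀ a ∈ A, a ≠ 0 → ∃ b ∈ A, a * b = 1 ∧ b * a = 1

namespace IsJord

variable {p : ℕ} {A : AddSubgroup E} (hA : IsJord p A)
include hA

theorem eq_zero_of_mul {a : E} (ha : a ∈ A) {x : E} (h : a * x = 0) (hx : x ≠ 0) : a = 0 := by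
  by_contra h0
  obtain ⟨b, -, -, hba⟩ := hA.inv a ha h0
  exact hx (by rw [← one_mul x, ← hba, mul_assoc, h, mul_zero])

theorem aba_mem {a b : E} (ha : a ∈ A) (hb : b ∈ A) : a * b * a ∈ A := by
  by_cases ha0 : a = 0
  · simp [ha0, A.zero_mem]
  by_cases hb0 : b = 0
  · simp [hb0, A.zero_mem]
  obtain ⟨a', ha', haa, ha'a⟩ := hA.inv a ha ha0
  obtain ⟨b', hb', hbb, hb'b⟩ := hA.inv b hb hb0
  by_cases hs : b' - a = 0
  · rw [← sub_eq_zero.mp hs, hb'b, one_mul]
    exact hb'
  obtain ⟨s', hs', -, hs's⟩ := hA.inv (b' - a) (A.sub_mem hb' ha) hs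
  have key : (a' + s') * (a - a * b * a) = 1 := by
    have h1 : a - a * b * a = (b' - a) * (b * a) := by
      rw [sub_mul, ← mul_assoc b', hb'b, one_mul, mul_assoc a b a]
    have h2 : a' * (a - a * b * a) = 1 - b * a := by
      rw [mul_sub, ha'a, ← mul_assoc a', ← mul_assoc a', ha'a, one_mul]
    rw [add_mul, h2, h1, ← mul_assoc s', hs's, one_mul, sub_add_cancel]
  have ht : a' + s' ≠ 0 := by
    intro h
    rw [h, zero_mul] at key
    exact ha0 (by rw [← one_mul a, ← key, zero_mul])
  obtain ⟨t', ht', -, ht't⟩ := hA.inv _ (A.add_mem ha' hs') ht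
  have e : t' = a - a * b * a := by
    calc t' = t' * ((a' + s') * (a - a * b * a)) := by rw [key, mul_one]
      _ = a - a * b * a := by rw [← mul_assoc, ht't, one_mul]
  have h := A.sub_mem ha ht'
  rwa [e, sub_sub_cancel] at h

theorem sq_mem {a : E} (ha : a ∈ A) : a * a ∈ A := by
  simpa using hA.aba_mem ha hA.one_mem

theorem eq_zero_of_add_self {x : E} (h : x + x = 0) : x = 0 := by
  obtain ⟨m, hm⟩ := hA.prime.odd_of_ne_two hA.odd
  have h2 : ((2 * m + 1 : ℕ) : E) * x = 0 := by rw [← hm, hA.char, zero_mul]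
  push_cast at h2
  rw [add_mul, one_mul, mul_assoc, two_mul, ← mul_add, h, mul_zero, zero_add] at h2
  exact h2

theorem half_mem {x : E} (h : x + x ∈ A) : x ∈ A := by
  obtain ⟨m, hm⟩ := hA.prime.odd_of_ne_two hA.odd
  have h2 : (m + 1) • (x + x) = x := by
    rw [nsmul_eq_mul, ← two_mul, ← mul_assoc]
    have : ((m + 1 : ℕ) : E) * 2 = ((p : ℕ) : E) + 1 := by rw [hm]; push_cast; noncomm_ring
    rw [this, hA.char, zero_add, one_mul]
  exact h2 ▸ A.nsmul_mem h _

theorem jordan_mem {e f x : E} (he : e ∈ A) (hf : f ∈ A) (hx : x ∈ A) :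
    e * x * f + f * x * e ∈ A := by
  have h : (e + f) * x * (e + f) = e * x * e + (e * x * f + f * x * e) + f * x * f := by
    noncomm_ring
  have := A.sub_mem (A.sub_mem (hA.aba_mem (A.add_mem he hf) hx) (hA.aba_mem hf hx))
    (hA.aba_mem he hx)
  rw [h] at this
  simpa using this

theorem mul_mem_of_comm {a b : E} (ha : a ∈ A) (hb : b ∈ A) (h : a * b = b * a) : a * b ∈ A := by
  refine hA.half_mem ?_
  have := hA.jordan_mem ha hb hA.one_mem
  rwa [mul_one, mul_one, ← h] at this

theorem closure_comm {S : Set E} (hcomm : ∀ x ∈ S, ∀ y ∈ S, x * y = y * x) {x y : E}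
    (hx : x ∈ Subring.closure S) (hy : y ∈ Subring.closure S) : x * y = y * x := by
  have := hA
  letI := Subring.closureCommRingOfComm hcomm
  exact congrArg Subtype.val (mul_comm (⟨x, hx⟩ : Subring.closure S) ⟨y, hy⟩)

theorem closure_mem {S : Set E} (hS : S ⊆ A) (hcomm : ∀ x ∈ S, ∀ y ∈ S, x * y = y * x)
    {x : E} (hx : x ∈ Subring.closure S) : x ∈ A := by
  induction hx using Subring.closure_induction with
  | mem x hx => exact hS hx
  | zero => exact A.zero_mem
  | one => exact hA.one_mem
  | add x y _ _ hx hy => exact A.add_mem hx hy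
  | neg x _ hx => exact A.neg_mem hx
  | mul x y hx' hy' hx hy => exact hA.mul_mem_of_comm hx hy (hA.closure_comm hcomm hx' hy')

theorem isField_of_subring [Nontrivial E] [Finite E] (R : Subring E)
    (hR : ∀ x ∈ R, x ∈ A) (hcomm : ∀ x ∈ R, ∀ y ∈ R, x * y = y * x) : IsField R := by
  refine ⟨exists_pair_ne _, fun x y => Subtype.ext (hcomm _ x.2 _ y.2), ?_⟩
  intro a ha
  have hinj : Function.Injective fun x : R => a * x := by
    intro x y h
    refine Subtype.ext (sub_eq_zero.mp ?_)
    by_contra hxy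
    refine ha (Subtype.ext (hA.eq_zero_of_mul (hR _ a.2) ?_ hxy))
    rw [mul_sub, sub_eq_zero]
    exact congrArg Subtype.val h
  exact Finite.injective_iff_surjective.mp hinj 1

/-- The elements of `A` commuting with a given element. -/
theorem commutant (z : E) : IsJord p (A ⊓ (AddMonoidHom.mulLeft z - AddMonoidHom.mulRight z).ker) where
  prime := hA.prime
  odd := hA.odd
  char := hA.char
  one_mem := ⟨hA.one_mem, by simp⟩
  inv a ha h0 := by
    obtain ⟨b, hb, hab, hba⟩ := hA.inv a ha.1 h0
    have h : z * a = a * z := sub_eq_zero.mp ha.2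
    refine ⟨b, ⟨hb, ?_⟩, hab, hba⟩
    show z * b - b * z = 0
    rw [sub_eq_zero]
    calc z * b = b * a * (z * b) := by rw [hba, one_mul]
      _ = b * (a * z) * b := by simp only [mul_assoc]
      _ = b * (z * a) * b := by rw [h]
      _ = b * z * (a * b) := by simp only [mul_assoc]
      _ = b * z := by rw [hab, mul_one]

end IsJord

/-- The elements of `A` commuting with all of `A`. -/
def central (A : AddSubgroup E) : Set E := {z | z ∈ A ∧ ∀ a ∈ A, z * a = a * z}

theorem central_comm {A : AddSubgroup E} : ∀ x ∈ central A, ∀ y ∈ central A, x * y = y * x :=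
  fun _ hx _ hy => hx.2 _ hy.1

/-- The central subring. -/
def centralSubring {p : ℕ} {A : AddSubgroup E} (hA : IsJord p A) : Subring E where
  carrier := central A
  zero_mem' := ⟨A.zero_mem, fun a _ => by simp⟩
  one_mem' := ⟨hA.one_mem, fun a _ => by simp⟩
  add_mem' {x y} hx hy := ⟨A.add_mem hx.1 hy.1, fun a ha => by
    rw [add_mul, mul_add, hx.2 a ha, hy.2 a ha]⟩
  neg_mem' {x} hx := ⟨A.neg_mem hx.1, fun a ha => by rw [neg_mul, mul_neg, hx.2 a ha]⟩
  mul_mem' {x y} hx hy := ⟨hA.mul_mem_of_comm hx.1 hy.1 (hx.2 _ hy.1), fun a ha => by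
    rw [mul_assoc, hy.2 a ha, ← mul_assoc, hx.2 a ha, mul_assoc]⟩

theorem mem_centralSubring {p : ℕ} {A : AddSubgroup E} {hA : IsJord p A} {x : E} :
    x ∈ centralSubring hA ↔ x ∈ A ∧ ∀ a ∈ A, x * a = a * x := Iff.rfl

/-- In a finite field of odd characteristic a product of two nonsquares is a square. -/
theorem isSquare_mul_of_not {K : Type*} [Field K] [Finite K] (h2 : ringChar K ≠ 2) {a b : K}
    (ha : ¬ IsSquare a) (hb : ¬ IsSquare b) : IsSquare (a * b) := by
  classical
  have := Fintype.ofFinite K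
  have ha0 : a ≠ 0 := fun h => ha (h ▸ IsSquare.zero)
  have hb0 : b ≠ 0 := fun h => hb (h ▸ IsSquare.zero)
  rw [← quadraticChar_one_iff_isSquare (mul_ne_zero ha0 hb0), map_mul,
    quadraticChar_neg_one_iff_not_isSquare.mpr ha, quadraticChar_neg_one_iff_not_isSquare.mpr hb]
  norm_num

/-- Binary quadratic forms over finite fields represent everything. -/
theorem exists_norm_eq {K : Type*} [Field K] [Finite K] (h2 : ringChar K ≠ 2) {k : K}
    (hk : k ≠ 0) (z : K) : ∃ a b : K, a * a - k * (b * b) = z := by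
  classical
  have := Fintype.ofFinite K
  obtain ⟨a, b, hab⟩ := FiniteField.exists_root_sum_quadratic
    (f := (Polynomial.X ^ 2 : Polynomial K))
    (g := Polynomial.C (-k) * Polynomial.X ^ 2 - Polynomial.C z)
    (Polynomial.degree_X_pow 2)
    (by rw [Polynomial.degree_sub_C] <;> rw [Polynomial.degree_C_mul (neg_ne_zero.mpr hk),
          Polynomial.degree_X_pow] <;> norm_num)
    (FiniteField.odd_card_of_char_ne_two h2)
  refine ⟨a, b, ?_⟩
  simp only [Polynomial.eval_pow, Polynomial.eval_X, Polynomial.eval_sub, Polynomial.eval_mul,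
    Polynomial.eval_C] at hab
  linear_combination hab

theorem ringChar_ne_two {p : ℕ} {A : AddSubgroup E} (hA : IsJord p A) [Nontrivial E] {K' : Type*}
    [Field K'] {f : K' →+* E} : ringChar K' ≠ 2 := by
  intro h
  have h2 : ((2 : ℕ) : K') = 0 := by rw [← h]; exact ringChar.Nat.cast_ringChar
  have := congrArg f h2
  rw [map_natCast, map_zero, Nat.cast_ofNat, ← one_add_one_eq_two] at this
  exact one_ne_zero (hA.eq_zero_of_add_self this)

end Cfsg.Agent.Lib.RankOneFF.Jordan
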