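import Cfsg.Agent.Lib.RankOneFF.Projective
import Cfsg.Agent.Lib.RankOneFF.Irreducible
import Cfsg.Agent.Lib.NumberTheory.Zsigmondy

/-!
# Finite Jordan division sets of odd characteristic are fields

If every commutant of a noncentral element is commutative and `A` is not, then inversion fixes only
the unit among the lines, so there are an odd number of them; a primitive prime divisor of
`Q ^ v - 1` divides the order of the transitive structure group, and inversion can be arranged to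
normalise a subgroup of that order, which forces commutativity.
-/

set_option autoImplicit false

namespace Cfsg.Agent.Lib.RankOneFF.Jordan

open scoped LinearAlgebra.Projectivization
open NumberTheory

/-- A two-power permutation of an odd set has a fixed point. -/
theorem exists_fixed_of_odd {Ω : Type*} [Finite Ω] (hΩ : Odd (Nat.card Ω)) {s : Equiv.Perm Ω}
    {e : ℕ} (hs : s ^ 2 ^ e = 1) : ∃ ω, s ω = ω := by
  haveI : Fact (Nat.Prime 2) := ⟨Nat.prime_two⟩
  have hP : IsPGroup 2 (Subgroup.zpowers s) := by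
    rintro ⟨x, hx⟩
    obtain ⟨k, rfl⟩ := Subgroup.mem_zpowers_iff.mp hx
    refine ⟨e, Subtype.ext ?_⟩
    rw [SubgroupClass.coe_pow, Subgroup.coe_one, ← zpow_natCast, ← zpow_mul, mul_comm, zpow_mul,
      zpow_natCast, hs, one_zpow]
  by_contra hnone
  push Not at hnone
  have h := hP.card_modEq_card_fixedPoints (α := Ω)
  have h0 : Nat.card (MulAction.fixedPoints (Subgroup.zpowers s) Ω) = 0 := by
    rw [Nat.card_eq_zero]
    exact Or.inl ⟨fun ω => hnone ω (ω.2 ⟨s, Subgroup.mem_zpowers s⟩)⟩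
  rw [h0, Nat.modEq_zero_iff_dvd] at h
  exact (Nat.not_even_iff_odd.mpr hΩ) (even_iff_two_dvd.mpr h)

variable {E : Type*} [Ring E] [Finite E] [Nontrivial E] {p : ℕ} {A : AddSubgroup E}
  {K : Type*} [Field K] [Finite K] [Module K A] {φ : K →+* E}
  (hA : IsJord p A) (hS : Scal A φ)

include hA hS

theorem exists_smul_one' (hv : Module.finrank K A ≤ 1) (x : A) : ∃ c : K, c • hA.one' = x := by
  haveI : Module.Finite K A := Module.Finite.of_finite
  have htop : (K ∙ hA.one' : Submodule K A) = ⊤ := by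
    refine Submodule.eq_top_of_finrank_eq (le_antisymm (Submodule.finrank_le _) ?_)
    rw [finrank_span_singleton hA.one'_ne_zero]
    exact hv
  exact Submodule.mem_span_singleton.mp (htop ▸ Submodule.mem_top)

/-- An automorphism of two-power order on the lines which fixes the unit and permutes a primitive
subgroup is trivial. -/
theorem eq_one_of_two_power (hsmall : SmallComm A) {r : ℕ} (hr : r.Prime) (hrK : ¬ (r : K) = 0)
    (hprim : Irreducible.Primitive r K (Module.finrank K A)) (hn : Odd (Module.finrank K A))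
    {d : A ≃ₗ[K] A} (hd : d ^ r = 1) (hd1 : d ≠ 1) {f : A ≃ₗ[K] A} (hf : Pair hA f f)
    (hf1 : f hA.one' = hA.one') {t a : ℕ} (ht : f ^ 2 * d * (f ^ 2)⁻¹ = d ^ t)
    (ha : (f ^ 2) ^ 2 ^ a = 1) : f = 1 := by
  have hcomm := Irreducible.commute_of_normalize hr hrK hprim hd hd1 hn (t := t) (a := a) ht
    (by rw [ha]; exact Commute.one_left d)
  have hinvol : ∀ x, f (f x) = x := fun x => by
    have h0 : ((f * f : A ≃ₗ[K] A).toLinearMap - LinearMap.id : Module.End K A) = 0 := by
      refine Irreducible.commutant_eq_zero hr hrK hprim hd hd1 (fun v => ?_) hA.one'_ne_zero ?_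
      · show f (f (d v)) - d v = d (f (f v) - v)
        have h := LinearEquiv.congr_fun hcomm v
        rw [sq] at h
        rw [map_sub, show f (f (d v)) = d (f (f v)) from h]
      · show f (f hA.one') - hA.one' = 0
        rw [hf1, hf1, sub_self]
    exact sub_eq_zero.mp (LinearMap.congr_fun h0 x)
  refine LinearEquiv.ext fun x => ?_
  show f x = x
  set y : A := x - f x with hy
  have hfy : f y = -y := by rw [hy, map_sub, hinvol, neg_sub]
  classical
  let F : E → E := fun e => if h : e ∈ A then (f ⟨e, h⟩ : E) else e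
  have hF : ∀ (e : E) (h : e ∈ A), F e = (f ⟨e, h⟩ : E) := fun e h => dif_pos h
  have hpow : ∀ n : ℕ, ∀ z : A, ∃ w : A, (w : E) = (z : E) ^ n ∧ (f w : E) = (f z : E) ^ n := by
    intro n
    induction n using Nat.strong_induction_on with
    | _ n ih =>
      intro z
      match n, ih with
      | 0, _ => exact ⟨hA.one', by simp, by rw [hf1]; simp⟩
      | 1, _ => exact ⟨z, by simp, by simp⟩
      | n + 2, ih =>
        obtain ⟨w, hw, hfw⟩ := ih n (by omega) z
        refine ⟨hA.quad z w, ?_, ?_⟩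
        · rw [hA.coe_quad, hw, pow_succ, ← pow_succ' (z : E) n]
        · rw [← hf.2, hA.coe_quad, hfw, pow_succ, ← pow_succ' (f z : E) n]
  have key := hA.no_negated hsmall F (fun u hu v hv => by
      rw [hF _ (A.add_mem hu hv), hF _ hu, hF _ hv, ← AddSubgroup.coe_add, ← map_add]
      rfl) y.2 (by
      rw [hF _ y.2]
      show (f y : E) = _
      rw [hfy]; rfl) ?_
  · exact (sub_eq_zero.mp (Subtype.ext key)).symm
  intro c hc n
  obtain ⟨c', rfl⟩ := hS.surj c hc
  obtain ⟨w, hw, hfw⟩ := hpow (2 * n) y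
  have e : φ c' * ((y : E) * y) ^ n = ((c' • w : A) : E) := by
    rw [hS.smul, hw, pow_mul, sq]
  rw [e, hF _ (c' • w : A).2]
  show (f (c' • w) : E) = _
  rw [map_smul, hS.smul, hS.smul, hfw, hw, hfy, AddSubgroup.coe_neg]
  rw [pow_mul, pow_mul, neg_sq]

theorem odd_card_points (hsmall : SmallComm A) : Odd (Nat.card (ℙ K A)) := by
  haveI : Fact (Nat.Prime 2) := ⟨Nat.prime_two⟩
  set j := jPerm hA hS with hj
  have hP : IsPGroup 2 (Subgroup.zpowers j) := by
    rintro ⟨x, hx⟩
    obtain ⟨k, rfl⟩ := Subgroup.mem_zpowers_iff.mp hx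
    refine ⟨1, Subtype.ext ?_⟩
    rw [SubgroupClass.coe_pow, Subgroup.coe_one, ← zpow_natCast, ← zpow_mul, mul_comm, zpow_mul,
      zpow_natCast, pow_one, sq, jPerm_mul_self hA hS, one_zpow]
  have h := hP.card_modEq_card_fixedPoints (α := ℙ K A)
  have h1 : Nat.card (MulAction.fixedPoints (Subgroup.zpowers j) (ℙ K A)) = 1 := by
    refine Nat.card_eq_one_iff_unique.mpr ⟨⟨fun a b => Subtype.ext ?_⟩, ⟨⟨onePt hA, fun g => ?_⟩⟩⟩
    · rw [eq_onePt_of_fixed hA hS hsmall (a.2 ⟨j, Subgroup.mem_zpowers j⟩),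
        eq_onePt_of_fixed hA hS hsmall (b.2 ⟨j, Subgroup.mem_zpowers j⟩)]
    · obtain ⟨g, hg⟩ := g
      have hfin : IsOfFinOrder j := isOfFinOrder_of_finite j
      obtain ⟨k, rfl⟩ := hfin.mem_powers_iff_mem_zpowers.mpr hg
      show (j ^ k) (onePt hA) = onePt hA
      induction k with
      | zero => rfl
      | succ k ih =>
        rw [pow_succ', Equiv.Perm.mul_apply, ih (Subgroup.pow_mem _ (Subgroup.mem_zpowers j) k)]
        exact jPerm_onePt hA hS
  rw [h1] at h
  exact Nat.odd_iff.mpr h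

/-- A Jordan division set all whose proper commutants are commutative is commutative. -/
theorem comm_of_smallComm (hsmall : SmallComm A) : ∀ x y : A, (x : E) * y = (y : E) * x := by
  classical
  haveI : Module.Finite K A := Module.Finite.of_finite
  haveI : Nontrivial A := ⟨_, _, hA.one'_ne_zero⟩
  have := Fintype.ofFinite K
  set n := Module.finrank K A with hn_def
  set Q := Nat.card K with hQ_def
  intro x y
  rcases Nat.lt_or_ge n 2 with hn2 | hn2
  · obtain ⟨a, ha⟩ := exists_smul_one' hA hS (by omega) x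
    rw [← ha, hS.smul, hA.coe_one', mul_one]
    exact hS.comm a y y.2
  have hQodd : Odd Q := by
    rw [hQ_def, Nat.card_eq_fintype_card, Nat.odd_iff]
    exact FiniteField.odd_card_of_char_ne_two (ringChar_ne_two hA (f := φ))
  have hQ3 : 3 ≤ Q := by
    have h1 : 1 < Q := Finite.one_lt_card
    obtain ⟨k, hk⟩ := hQodd
    omega
  -- the number of lines and the dimension
  have hΩodd := odd_card_points hA hS hsmall
  have hnodd : Odd n := by
    rw [Projectivization.card_of_finrank K A (n := n) rfl] at hΩodd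
    rw [Finset.odd_sum_iff_odd_card_odd] at hΩodd
    rwa [Finset.filter_true_of_mem (fun i _ => hQodd.pow), Finset.card_range] at hΩodd
  -- a primitive prime
  obtain ⟨r, hr, hrord⟩ := exists_primitive_prime (q := Q) (n := n) (by omega) hn2
    (by omega) (fun h => by rw [h.1] at hnodd; exact absurd hnodd (by decide))
  have hfr : Fact r.Prime := ⟨hr⟩
  have hprim : Irreducible.Primitive r K n := fun k hk => by
    rw [dvd_pow_sub_one_iff_orderOf_dvd k (by omega), hrord] at hk
    exact hk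
  have hrn : r ∣ Q ^ n - 1 := by
    rw [dvd_pow_sub_one_iff_orderOf_dvd n (by omega), hrord]
  have hrQ1 : ¬ r ∣ Q - 1 := fun h => by
    have h1 := hprim 1 (by rwa [pow_one])
    have := Nat.le_of_dvd one_pos h1
    omega
  have hrK : ¬ (r : K) = 0 := fun h => by
    obtain ⟨c, hc⟩ := CharP.exists K
    obtain ⟨e, hcp, hcard⟩ := FiniteField.card K c
    have h1 : c = r := by
      have h2 := (CharP.cast_eq_zero_iff K c r).mp h
      exact (Nat.prime_dvd_prime_iff_eq hcp hr).mp h2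
    have h2 : r ∣ Q ^ n := by
      rw [hQ_def, Nat.card_eq_fintype_card, hcard, h1]
      exact dvd_pow (dvd_pow_self r e.ne_zero) (by omega)
    have h3 := Nat.dvd_sub h2 hrn
    rw [Nat.sub_sub_self (Nat.one_le_pow _ _ (by omega))] at h3
    exact hr.one_lt.ne' (Nat.dvd_one.mp h3)
  have hrodd : r ≠ 2 := by
    rintro rfl
    obtain ⟨k, hk⟩ := hQodd
    exact hrQ1 ⟨k, by omega⟩
  set j := jPerm hA hS with hj
  have hjj : j * j = 1 := jPerm_mul_self hA hS
  have hjinv : j⁻¹ = j := inv_eq_of_mul_eq_one_right hjj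
  set H := (piHom (K := K) hA).range with hH
  have hjH : ∀ h ∈ H, j * h * j ∈ H := by
    rintro _ ⟨⟨f, f', hff⟩, rfl⟩
    exact ⟨⟨f', f, hff.symm hA⟩, (jPerm_conj hA hS hff).symm⟩
  -- `r` divides the order of `H`
  have hrH : r ∣ Nat.card H := by
    haveI : MulAction.IsPretransitive H (ℙ K A) := by
      refine ⟨fun a b => ?_⟩
      obtain ⟨g, hg⟩ := exists_map_onePt hA hS hsmall a
      obtain ⟨g', hg'⟩ := exists_map_onePt hA hS hsmall b
      refine ⟨⟨piHom hA (g' * g⁻¹), g' * g⁻¹, rfl⟩, ?_⟩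
      show piHom hA (g' * g⁻¹) a = b
      rw [← hg, ← Equiv.Perm.mul_apply, ← map_mul, inv_mul_cancel_right, hg']
    refine dvd_trans ?_ (Subgroup.index_dvd_card (MulAction.stabilizer H (onePt (K := K) hA)))
    rw [MulAction.index_stabilizer_of_transitive]
    have h1 := Projectivization.card' K A
    rw [Module.natCard_eq_pow_finrank (K := K), ← hQ_def, ← hn_def] at h1
    have h2 : r ∣ Nat.card (ℙ K A) * (Q - 1) := by
      have : Q ^ n - 1 = Nat.card (ℙ K A) * (Q - 1) := by omega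
      rwa [this] at hrn
    exact (hr.dvd_mul.mp h2).resolve_right hrQ1
  -- Sylow and Frattini
  obtain ⟨R⟩ := (inferInstance : Nonempty (Sylow r H))
  let cj : H ≃* H :=
    { toFun := fun h => ⟨j * h * j, hjH h h.2⟩
      invFun := fun h => ⟨j * h * j, hjH h h.2⟩
      left_inv := fun h => Subtype.ext (by
        simp only [mul_assoc, hjj, mul_one]; rw [← mul_assoc, hjj, one_mul])
      right_inv := fun h => Subtype.ext (by
        simp only [mul_assoc, hjj, mul_one]; rw [← mul_assoc, hjj, one_mul])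
      map_mul' := fun a b => Subtype.ext (by
        simp only [Subgroup.coe_mul, mul_assoc]; rw [← mul_assoc j j, hjj, one_mul]) }
  obtain ⟨h0, hh0⟩ := MulAction.exists_smul_eq H R (R.mapSurjective (f := cj.toMonoidHom) cj.surjective)
  set s0 : Equiv.Perm (ℙ K A) := j * h0 with hs0
  have hs0R : ∀ z : H, z ∈ R → ∃ w : H, w ∈ R ∧ s0 * z * s0⁻¹ = w := by
    intro z hz
    have h1 : h0 * z * h0⁻¹ ∈ (R.mapSurjective (f := cj.toMonoidHom) cj.surjective : Sylow r H) := by
      rw [← hh0]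
      exact ⟨z, hz, rfl⟩
    obtain ⟨w, hw, hwe⟩ := h1
    refine ⟨w, hw, ?_⟩
    have h2 : (j * w * j : Equiv.Perm (ℙ K A)) = (h0 : Equiv.Perm (ℙ K A)) * z * (h0 : Equiv.Perm (ℙ K A))⁻¹ :=
      congrArg Subtype.val hwe
    rw [hs0, mul_inv_rev, hjinv]
    calc j * h0 * z * ((h0 : Equiv.Perm (ℙ K A))⁻¹ * j)
        = j * ((h0 : Equiv.Perm (ℙ K A)) * z * (h0 : Equiv.Perm (ℙ K A))⁻¹) * j := by
          simp only [mul_assoc]
      _ = j * j * w * (j * j) := by rw [← h2]; simp only [mul_assoc]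
      _ = w := by rw [hjj, one_mul, mul_one]
  -- the odd part
  obtain ⟨e, m, hm, horder⟩ := Nat.exists_eq_two_pow_mul_odd (orderOf_pos s0).ne'
  set s := s0 ^ m with hs_def
  have hs2 : s ^ 2 ^ e = 1 := by
    rw [hs_def, ← pow_mul, mul_comm, ← horder, pow_orderOf_eq_one]
  have hsR : ∀ k : ℕ, ∀ z : H, z ∈ R → ∃ w : H, w ∈ R ∧ s0 ^ k * z * (s0 ^ k)⁻¹ = w := by
    intro k
    induction k with
    | zero => intro z hz; exact ⟨z, hz, by simp⟩
    | succ k ih =>
      intro z hz
      obtain ⟨w, hw, hwe⟩ := ih z hz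
      obtain ⟨w', hw', hwe'⟩ := hs0R w hw
      refine ⟨w', hw', ?_⟩
      rw [← hwe', ← hwe, pow_succ']; group
  have hsj : j * s ∈ H := by
    have hsq : s0 * s0 ∈ H := by
      rw [hs0, show j * (h0 : Equiv.Perm (ℙ K A)) * (j * h0) = j * h0 * j * h0 by
        simp only [mul_assoc]]
      exact H.mul_mem (hjH _ h0.2) h0.2
    obtain ⟨k, hk⟩ := hm
    rw [hs_def, hk, pow_succ', pow_mul, sq, ← mul_assoc, hs0, ← mul_assoc j j, hjj, one_mul]
    exact H.mul_mem h0.2 (H.pow_mem hsq k)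
  -- move a fixed point to the unit
  obtain ⟨ω, hω⟩ := exists_fixed_of_odd hΩodd hs2
  obtain ⟨g, hg⟩ := exists_map_onePt hA hS hsmall ω
  set P := piHom hA g with hP
  set s1 := P⁻¹ * s * P with hs1
  have hs12 : s1 ^ 2 ^ e = 1 := by
    have e1 : s1 = P⁻¹ * s * (P⁻¹)⁻¹ := by rw [hs1, inv_inv]
    rw [e1, conj_pow, hs2]; group
  have hs1one : s1 (onePt hA) = onePt hA := by
    rw [hs1, Equiv.Perm.mul_apply, Equiv.Perm.mul_apply, hg, hω, ← hg]
    exact P.symm_apply_apply _
  obtain ⟨f0, hf0⟩ : ∃ f0, piHom hA f0 = j * s1 := by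
    have : j * s1 ∈ H := by
      have e1 : j * s1 = (j * P⁻¹ * j) * (j * s) * P := by
        rw [hs1, show j * P⁻¹ * j * (j * s) = j * P⁻¹ * (j * j) * s by simp only [mul_assoc], hjj,
          mul_one]
        simp only [mul_assoc]
      rw [e1]
      exact H.mul_mem (H.mul_mem (hjH _ (H.inv_mem ⟨g, rfl⟩)) hsj) ⟨g, rfl⟩
    exact this
  have hf0one : ∃ c : K, c • hA.one' = (f0 : A ≃ₗ[K] A) hA.one' := by
    have h1 : piHom hA f0 (onePt hA) = onePt hA := by
      rw [hf0, Equiv.Perm.mul_apply, hs1one, hj, jPerm_onePt]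
    rw [piHom_apply, onePt, Projectivization.smul_mk, Projectivization.mk_eq_mk_iff'] at h1
    exact h1
  obtain ⟨c, hc⟩ := hf0one
  have hc0 : c ≠ 0 := fun h => hA.one'_ne_zero
    ((f0 : A ≃ₗ[K] A).injective (by rw [map_zero, ← hc, h, zero_smul]))
  obtain ⟨f, f', hff, hfpi, hf1⟩ : ∃ f f' : A ≃ₗ[K] A, ∃ hff : Pair hA f f',
      piHom hA ⟨f, f', hff⟩ = j * s1 ∧ f hA.one' = hA.one' := by
    obtain ⟨f0', hf0'⟩ := f0.2
    refine ⟨_, _, (hS.pair_smul hA (inv_ne_zero hc0)).mul hA hf0', ?_, ?_⟩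
    · rw [← hf0]
      exact piHom_smulOfNeZero hA hS (inv_ne_zero hc0) f0
    · show c⁻¹ • (f0 : A ≃ₗ[K] A) hA.one' = hA.one'
      rw [← hc, inv_smul_smul₀ hc0]
  obtain rfl := (hff.eq_of_one hA hf1).symm
  set F := piHom hA ⟨f, f, hff⟩ with hF
  have hjF : j * F * j = F := jPerm_conj hA hS hff
  have hs1F : s1 = j * F := by rw [hfpi, ← mul_assoc, hjj, one_mul]
  have hs1sq : s1 ^ 2 = F ^ 2 := by
    rw [sq, sq, hs1F, ← mul_assoc, hjF]
  -- the central element of order `r`
  set ι : H →* Equiv.Perm (ℙ K A) := (MulAut.conj P⁻¹).toMonoidHom.comp H.subtype with hι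
  have hιinj : Function.Injective ι := (MulAut.conj P⁻¹).injective.comp Subtype.val_injective
  set R1 := (R : Subgroup H).map ι with hR1
  have hR1H : ∀ z ∈ R1, z ∈ H := by
    rintro _ ⟨z, -, rfl⟩
    exact H.mul_mem (H.mul_mem (H.inv_mem ⟨g, rfl⟩) z.2) (H.inv_mem (H.inv_mem ⟨g, rfl⟩))
  have hR1s : ∀ z ∈ R1, s1 * z * s1⁻¹ ∈ R1 := by
    rintro _ ⟨z, hz, rfl⟩
    obtain ⟨w, hw, hwe⟩ := hsR m z hz
    refine ⟨w, hw, ?_⟩
    show P⁻¹ * (w : Equiv.Perm (ℙ K A)) * P⁻¹⁻¹ = _
    rw [← hwe, hs1, hs_def]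
    show _ = P⁻¹ * s0 ^ m * P * (P⁻¹ * (z : Equiv.Perm (ℙ K A)) * P⁻¹⁻¹) * (P⁻¹ * s0 ^ m * P)⁻¹
    group
  have hR1p : IsPGroup r R1 := R.2.map ι
  have hR1nt : Nontrivial R1 := by
    rw [Subgroup.nontrivial_iff_ne_bot, hR1, Ne, Subgroup.map_eq_bot_iff_of_injective _ hιinj]
    exact R.ne_bot_of_dvd_card hrH
  haveI := hR1p.center_nontrivial
  obtain ⟨z0, hz0⟩ : ∃ z0 : Subgroup.center R1, orderOf z0 = r := by
    obtain ⟨k, hk, hcard⟩ := (hR1p.to_subgroup (Subgroup.center R1)).nontrivial_iff_card.mp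
      inferInstance
    exact exists_prime_orderOf_dvd_card' r (hcard ▸ dvd_pow_self r hk.ne')
  set D : Equiv.Perm (ℙ K A) := ((z0 : R1) : Equiv.Perm (ℙ K A)) with hD
  have hDr : D ^ r = 1 := by
    have := pow_orderOf_eq_one z0
    rw [hz0] at this
    exact congrArg (fun z : Subgroup.center R1 => ((z : R1) : Equiv.Perm (ℙ K A))) this
  have hD1 : D ≠ 1 := fun h => by
    have : z0 = 1 := Subtype.ext (Subtype.ext h)
    rw [this, orderOf_one] at hz0
    exact hr.one_lt.ne hz0
  obtain ⟨d, hdD, hdr⟩ := exists_lift hA hS hr hrQ1 (hR1H D (z0 : R1).2) hDr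
  have hd1 : (d : A ≃ₗ[K] A) ≠ 1 := fun h => hD1 (by
    rw [← hdD, show d = 1 from Subtype.ext h, map_one])
  have huniq : ∀ {a b : str (K := K) hA}, piHom hA a = piHom hA b →
      (a : A ≃ₗ[K] A) ^ r = 1 → (b : A ≃ₗ[K] A) ^ r = 1 → (a : A ≃ₗ[K] A) = b := fun h ha hb =>
    lift_unique hr hrQ1 (fun ω => Equiv.congr_fun h ω) ha hb
  -- every central element of order `r` is a power of `D`
  have hpowD : ∀ w : R1, w ∈ Subgroup.center R1 → w ^ r = 1 → ∃ i : ℕ, (w : Equiv.Perm _) = D ^ i := by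
    intro w hw hwr
    obtain ⟨u, hu, hur⟩ := exists_lift hA hS hr hrQ1 (hR1H _ w.2)
      (congrArg Subtype.val hwr)
    have hcom : (u : A ≃ₗ[K] A) * d * (u : A ≃ₗ[K] A)⁻¹ = d := by
      refine huniq (a := u * d * u⁻¹) ?_ ?_ hdr
      · rw [map_mul, map_mul, map_inv, hu, hdD]
        have := congrArg Subtype.val (Subgroup.mem_center_iff.mp hw (z0 : R1))
        rw [mul_inv_eq_iff_eq_mul]
        exact this.symm
      · show ((u : A ≃ₗ[K] A) * d * (u : A ≃ₗ[K] A)⁻¹) ^ r = 1
        rw [conj_pow, hdr]; group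
    obtain ⟨i, hi⟩ := Irreducible.exists_pow_eq hr hrK hprim hdr hd1
      (h := (u : A ≃ₗ[K] A)) (mul_inv_eq_iff_eq_mul.mp hcom) hur
    refine ⟨i, ?_⟩
    rw [← hu, show u = d ^ i from Subtype.ext hi, map_pow, hdD]
  obtain ⟨i, hi⟩ : ∃ i : ℕ, s1 * D * s1⁻¹ = D ^ i := by
    refine hpowD ⟨_, hR1s D (z0 : R1).2⟩ (Subgroup.mem_center_iff.mpr fun w => Subtype.ext ?_)
      (Subtype.ext ?_)
    · show (w : Equiv.Perm _) * (s1 * D * s1⁻¹) = s1 * D * s1⁻¹ * (w : Equiv.Perm (ℙ K A))
      have hsinv : ∀ z ∈ R1, s1⁻¹ * z * s1 ∈ R1 := by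
        intro z hz
        have hk : ∀ k : ℕ, s1 ^ k * z * (s1 ^ k)⁻¹ ∈ R1 := by
          intro k
          induction k with
          | zero => simpa using hz
          | succ k ih =>
            have := hR1s _ ih
            rw [pow_succ']
            convert this using 1
            group
        have := hk (orderOf s1 - 1)
        rwa [← inv_inv (s1 ^ (orderOf s1 - 1)), show (s1 ^ (orderOf s1 - 1))⁻¹ = s1 by
          rw [inv_eq_iff_mul_eq_one, ← pow_succ, Nat.sub_add_cancel (orderOf_pos s1),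
            pow_orderOf_eq_one], inv_inv] at this
      have h1 := congrArg Subtype.val
        (Subgroup.mem_center_iff.mp z0.2 ⟨_, hsinv w w.2⟩)
      simp only [Subgroup.coe_mul] at h1
      rw [← hD] at h1
      generalize hW : (w : Equiv.Perm (ℙ K A)) = W at h1 ⊢
      calc W * (s1 * D * s1⁻¹) = s1 * (s1⁻¹ * W * s1 * D) * s1⁻¹ := by group
        _ = s1 * (D * (s1⁻¹ * W * s1)) * s1⁻¹ := by rw [h1]
        _ = s1 * D * s1⁻¹ * W := by group
    · show (s1 * D * s1⁻¹) ^ r = 1
      rw [conj_pow, hDr]; group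
  -- `f = 1`
  have hfeq : f = 1 := by
    have hFd : piHom hA (⟨f, f, hff⟩ ^ 2 * d * (⟨f, f, hff⟩ ^ 2)⁻¹) = piHom hA (d ^ (i * i)) := by
      rw [map_mul, map_mul, map_inv, map_pow, map_pow, hdD, ← hF, ← hs1sq]
      calc s1 ^ 2 * D * (s1 ^ 2)⁻¹ = s1 * (s1 * D * s1⁻¹) * s1⁻¹ := by rw [sq]; group
        _ = s1 * D ^ i * s1⁻¹ := by rw [hi]
        _ = (s1 * D * s1⁻¹) ^ i := conj_pow.symm
        _ = D ^ (i * i) := by rw [hi, pow_mul]
    have h2 := huniq hFd (by
      show (f ^ 2 * (d : A ≃ₗ[K] A) * (f ^ 2)⁻¹) ^ r = 1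
      rw [conj_pow, hdr]; group) (by
      show ((d : A ≃ₗ[K] A) ^ (i * i)) ^ r = 1
      rw [← pow_mul, mul_comm, pow_mul, hdr, one_pow])
    have hF2 : F ^ 2 ^ (e + 1) = 1 := by
      rw [pow_succ', pow_mul, ← hs1sq, ← pow_mul, mul_comm, pow_mul, hs12, one_pow]
    refine eq_one_of_two_power hA hS hsmall hr hrK hprim hnodd hdr hd1 hff hf1 h2 (a := e) ?_
    rw [← pow_mul, ← pow_succ']
    obtain ⟨b, hb0, hb⟩ := exists_scalar (f ^ 2 ^ (e + 1)) fun ω => by
      have := Equiv.congr_fun hF2 ω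
      rwa [hF, ← map_pow] at this
    have hb1 : b = 1 := by
      have hfix : ∀ k : ℕ, (f ^ k : A ≃ₗ[K] A) hA.one' = hA.one' := by
        intro k
        induction k with
        | zero => rfl
        | succ k ih => rw [pow_succ, LinearEquiv.mul_apply, hf1, ih]
      have h3 := hb hA.one'
      rw [hfix] at h3
      have h4 : ((1 : K) - b) • hA.one' = 0 := by
        rw [sub_smul, one_smul, ← h3, sub_self]
      exact (sub_eq_zero.mp ((smul_eq_zero.mp h4).resolve_right hA.one'_ne_zero)).symm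
    exact LinearEquiv.ext fun v => by rw [hb, hb1, one_smul]; rfl
  have hs1j : s1 = j := by
    rw [hs1F, hF, show (⟨f, f, hff⟩ : str (K := K) hA) = 1 from Subtype.ext hfeq, map_one, mul_one]
  rw [hs1j, hjinv] at hi
  -- the two cases
  have hii : D ^ (i * i) = D := by
    calc D ^ (i * i) = (j * D * j) ^ i := by rw [hi, pow_mul]
      _ = j * D ^ i * j := by
        conv_lhs => rw [show j * D * j = j * D * j⁻¹ by rw [hjinv]]
        rw [conj_pow, hjinv]
      _ = D := by rw [← hi]; simp only [mul_assoc, hjj, mul_one]; rw [← mul_assoc, hjj, one_mul]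
  have hDord : orderOf D = r := orderOf_eq_prime hDr hD1
  have hi2 : ((i : ZMod r)) = 1 ∨ ((i : ZMod r)) = -1 := by
    have h1 : i * i ≡ 1 [MOD r] := by
      rw [← hDord, ← (isOfFinOrder_of_finite D).pow_eq_pow_iff_modEq, pow_one]
      exact hii
    have h2 : ((i : ZMod r)) * (i : ZMod r) = 1 := by
      rw [← Nat.cast_mul, ← Nat.cast_one, ZMod.natCast_eq_natCast_iff]
      exact h1
    exact mul_self_eq_one_iff.mp h2
  obtain ⟨d', hdd'⟩ := d.2
  rcases hi2 with hi1 | hi1
  · exfalso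
    have hjD : j * D * j = D := by
      rw [hi]
      conv_rhs => rw [← pow_one D]
      rw [(isOfFinOrder_of_finite D).pow_eq_pow_iff_modEq, hDord, ← ZMod.natCast_eq_natCast_iff,
        Nat.cast_one]
      exact hi1
    have hfix : D (onePt hA) = onePt hA := by
      refine eq_onePt_of_fixed hA hS hsmall ?_
      conv_rhs => rw [← hjD]
      rw [Equiv.Perm.mul_apply, Equiv.Perm.mul_apply, hj, jPerm_onePt]
    rw [← hdD, piHom_apply, onePt, Projectivization.smul_mk,
      Projectivization.mk_eq_mk_iff'] at hfix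
    obtain ⟨a, ha⟩ := hfix
    rcases Irreducible.eq_bot_or_top hr hrK hprim hdr hd1 (K ∙ hA.one') (fun w hw => by
      obtain ⟨b, rfl⟩ := Submodule.mem_span_singleton.mp hw
      rw [map_smul, show (d : A ≃ₗ[K] A) hA.one' = a • hA.one' from ha.symm, smul_smul]
      exact Submodule.mem_span_singleton.mpr ⟨_, rfl⟩) with h | h
    · exact hA.one'_ne_zero (Submodule.span_singleton_eq_bot.mp h)
    · have h1 := finrank_span_singleton (K := K) hA.one'_ne_zero
      rw [h, finrank_top] at h1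
      omega
  -- inversion inverts `D`
  have hd'eq : d' = (d : A ≃ₗ[K] A)⁻¹ := by
    refine huniq (a := ⟨d', _, hdd'.symm hA⟩) (b := d⁻¹) ?_ ?_ ?_
    · rw [← jPerm_conj hA hS hdd', map_inv]
      show j * piHom hA d * j = _
      rw [hdD, hi]
      refine eq_inv_of_mul_eq_one_left ?_
      rw [← pow_succ, ← orderOf_dvd_iff_pow_eq_one, hDord,
        ← ZMod.natCast_eq_zero_iff, Nat.cast_add, Nat.cast_one, hi1, neg_add_cancel]
    · show d' ^ r = 1
      have := hdd'.pow hA r
      rw [hdr] at this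
      exact this.unique hA (Pair.one hA)
    · show ((d : A ≃ₗ[K] A)⁻¹) ^ r = 1
      rw [inv_pow, hdr, inv_one]
  subst hd'eq
  set d₀ : A ≃ₗ[K] A := (d : A ≃ₗ[K] A) with hd₀
  set u : A := d₀ hA.one' with hu
  have hquad : ∀ z, hA.quad u z = d₀ (d₀ z) := fun z => by
    have h1 := hdd'.2 hA.one' (d₀ z)
    have e : ∀ z, hA.quad hA.one' z = z := fun z => Subtype.ext (by simp)
    rw [e, show (d₀⁻¹ : A ≃ₗ[K] A) (d₀ z) = z from d₀.symm_apply_apply z] at h1
    exact h1
  have hpows : ∀ k : ℕ, (((d₀ ^ (2 * k) : A ≃ₗ[K] A) hA.one' : A) : E) = (u : E) ^ (2 * k) := by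
    intro k
    induction k with
    | zero => simp
    | succ k ih =>
      rw [show 2 * (k + 1) = 2 * k + 2 by ring, pow_add, pow_add,
        show ∀ z, (d₀ ^ (2 * k) * d₀ ^ 2 : A ≃ₗ[K] A) z = d₀ (d₀ ((d₀ ^ (2 * k) : A ≃ₗ[K] A) z))
          from fun z => by rw [← pow_add, add_comm, pow_add, sq]; rfl,
        ← hquad, hA.coe_quad, ih]
      rw [← pow_succ', ← pow_succ, ← pow_add]
  have hall : ∀ m : ℕ, ∃ l : ℕ, (((d₀ ^ m : A ≃ₗ[K] A) hA.one' : A) : E) = (u : E) ^ l := by
    intro m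
    obtain ⟨q, hq⟩ := hr.odd_of_ne_two hrodd
    refine ⟨2 * (m * (q + 1)), ?_⟩
    rw [← hpows, show 2 * (m * (q + 1)) = m + r * m by rw [hq]; ring, pow_add, pow_mul, hdr,
      one_pow, mul_one]
  let W : Submodule K A := Submodule.span K (Set.range fun m : ℕ => (d₀ ^ m : A ≃ₗ[K] A) hA.one')
  have hW : W = ⊤ := by
    rcases Irreducible.eq_bot_or_top hr hrK hprim hdr hd1 W (fun w hw => by
      induction hw using Submodule.span_induction with
      | mem w hw =>
        obtain ⟨m, rfl⟩ := hw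
        refine Submodule.subset_span ⟨m + 1, ?_⟩
        show (d₀ ^ (m + 1) : A ≃ₗ[K] A) hA.one' = d₀ ((d₀ ^ m : A ≃ₗ[K] A) hA.one')
        rw [pow_succ']; rfl
      | zero => rw [map_zero]; exact W.zero_mem
      | add a b _ _ ha hb => rw [map_add]; exact W.add_mem ha hb
      | smul c a _ ha => rw [map_smul]; exact W.smul_mem c ha) with h | h
    · exfalso
      have : hA.one' ∈ W := Submodule.subset_span ⟨0, rfl⟩
      rw [h, Submodule.mem_bot] at this
      exact hA.one'_ne_zero this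
    · exact h
  have hcu : ∀ z : A, (z : E) * u = (u : E) * z := by
    intro z
    have hz : z ∈ W := hW ▸ Submodule.mem_top
    induction hz using Submodule.span_induction with
    | mem w hw =>
      obtain ⟨m, rfl⟩ := hw
      obtain ⟨l, hl⟩ := hall m
      simp only
      rw [hl, ← pow_succ, ← pow_succ']
    | zero => simp
    | add a b _ _ ha hb => simp [add_mul, mul_add, ha, hb]
    | smul c a _ ha => rw [hS.smul, mul_assoc, ha, ← mul_assoc, hS.comm c u u.2, mul_assoc]
  have hy : y ∈ W := hW ▸ Submodule.mem_top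
  induction hy using Submodule.span_induction with
  | mem w hw =>
    obtain ⟨m, rfl⟩ := hw
    obtain ⟨l, hl⟩ := hall m
    simp only
    rw [hl]
    exact (Commute.pow_right (hcu x) l).eq
  | zero => simp
  | add a b _ _ ha hb => simp [add_mul, mul_add, ha, hb]
  | smul c a _ ha => rw [hS.smul, ← mul_assoc, ← hS.comm c x x.2, mul_assoc, ha, mul_assoc]

end Cfsg.Agent.Lib.RankOneFF.Jordan
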