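import Cfsg.Agent.Lib.RankOneFF.Jordan

/-!
# Square roots in a minimal noncommutative Jordan division set

Assume every commutant of a noncentral element of `A` is commutative.  Then an element of `A` with
central square is central, every element is a central element times a square, and no involutive
automorphism of `A` negates a nonzero element.
-/

set_option autoImplicit false

namespace Cfsg.Agent.Lib.RankOneFF.Jordan

variable {E : Type*} [Ring E] [Finite E] [Nontrivial E] {p : ℕ} {A : AddSubgroup E}

/-- Commutants of noncentral elements are commutative. -/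
def SmallComm (A : AddSubgroup E) : Prop :=
  ∀ z ∈ A, z ∉ central A → ∀ x ∈ A, ∀ y ∈ A, z * x = x * z → z * y = y * z → x * y = y * x

namespace IsJord

variable (hA : IsJord p A)
include hA

/-- The centre is a field. -/
theorem isField_central : IsField (centralSubring hA) :=
  hA.isField_of_subring _ (fun _ hx => hx.1) fun x hx y hy => central_comm x hx y hy

/-- An element of `A` whose square is central has, if noncentral, a square which is no central square;
but that is impossible. -/
theorem sq_central (hsmall : SmallComm A) {i : E} (hi : i ∈ A) (hk : i * i ∈ central A) :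
    i ∈ central A := by
  classical
  by_contra hiZ
  letI : Field (centralSubring hA) := hA.isField_central.toField
  set k : centralSubring hA := ⟨i * i, hk⟩ with hkdef
  have hi0 : i ≠ 0 := fun h => hiZ (h ▸ (centralSubring hA).zero_mem)
  obtain ⟨i', -, -, hi'i⟩ := hA.inv i hi hi0
  have hk0 : k ≠ 0 := fun h => hi0 (hA.eq_zero_of_mul hi (congrArg Subtype.val h) hi0)
  obtain ⟨l, hl⟩ : ∃ l : centralSubring hA, k * l = 1 := ⟨k⁻¹, mul_inv_cancel₀ hk0⟩
  have hl' : i * i * (l : E) = 1 := congrArg Subtype.val hl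
  -- a noncommuting element, and its anticommuting component
  obtain ⟨x, hx, hix⟩ : ∃ x ∈ A, i * x ≠ x * i := by
    by_contra h
    push Not at h
    exact hiZ ⟨hi, h⟩
  set y := x - (l : E) * (i * x * i) with hy_def
  have hlc : ∀ a ∈ A, (l : E) * a = a * (l : E) := l.2.2
  have hyA : y ∈ A := A.sub_mem hx
    (hA.mul_mem_of_comm l.2.1 (hA.aba_mem hi hx) (hlc _ (hA.aba_mem hi hx)))
  have h1 : i * ((l : E) * (i * x * i)) = x * i := by
    calc i * ((l : E) * (i * x * i)) = (i * (l : E)) * i * (x * i) := by simp only [mul_assoc]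
      _ = ((l : E) * i) * i * (x * i) := by rw [← hlc i hi]
      _ = (l : E) * (i * i) * (x * i) := by simp only [mul_assoc]
      _ = x * i := by rw [hlc _ (hA.sq_mem hi), hl', one_mul]
  have h2 : (l : E) * (i * x * i) * i = i * x := by
    calc (l : E) * (i * x * i) * i = (l : E) * (i * (x * (i * i))) := by simp only [mul_assoc]
      _ = (l : E) * (i * ((i * i) * x)) := by rw [hk.2 x hx]
      _ = ((l : E) * i) * (i * i) * x := by simp only [mul_assoc]
      _ = i * ((l : E) * (i * i)) * x := by rw [hlc i hi, mul_assoc i]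
      _ = i * x := by rw [hlc _ (hA.sq_mem hi), hl', mul_one]
  have hiy : i * y = -(y * i) := by
    rw [hy_def, mul_sub, sub_mul, h1, h2]; abel
  have hy0 : y ≠ 0 := by
    intro h
    have : i * y = 0 := by rw [h, mul_zero]
    rw [hy_def, mul_sub, h1] at this
    exact hix (sub_eq_zero.mp this)
  have hny : y * i ≠ i * y := by
    intro h
    rw [← h] at hiy
    have h0 := hA.eq_zero_of_add_self (add_eq_zero_iff_eq_neg.mpr hiy)
    exact hy0 (by_contra fun hne => hne (by
      by_contra hy'
      exact hi0 (by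
        obtain ⟨y', -, -, hy'y⟩ := hA.inv y hyA hy'
        rw [← one_mul i, ← hy'y, mul_assoc, h0, mul_zero])))
  -- the square of the component is central
  have hziy : i * (y * y) = y * y * i := by
    rw [← mul_assoc, hiy, neg_mul, mul_assoc, hiy, mul_neg, neg_neg, mul_assoc]
  have hz : y * y ∈ central A := by
    by_contra hzc
    exact hny (hsmall _ (hA.sq_mem hyA) hzc y hyA i hi (mul_assoc y y y) hziy.symm)
  have h2K : ringChar (centralSubring hA) ≠ 2 :=
    ringChar_ne_two hA (f := (centralSubring hA).subtype)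
  -- `y * y` is a norm from the field generated by `i`
  obtain ⟨a, b, hab⟩ := exists_norm_eq h2K hk0 ⟨y * y, hz⟩
  have hab' : (a : E) * a - i * i * ((b : E) * b) = y * y := congrArg Subtype.val hab
  have hbi : (b : E) * i ∈ A := hA.mul_mem_of_comm b.2.1 hi (b.2.2 i hi)
  set c := (a : E) + (b : E) * i with hc
  set c' := (a : E) - (b : E) * i with hc'
  have hcc' : c * c' = y * y := by
    rw [← hab', hc, hc']
    have e1 : (b : E) * i * (a : E) = (a : E) * ((b : E) * i) := by
      rw [← a.2.2 _ hbi]
    have e2 : (b : E) * i * ((b : E) * i) = i * i * ((b : E) * b) := by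
      calc (b : E) * i * ((b : E) * i) = (b : E) * (i * (b : E)) * i := by simp only [mul_assoc]
        _ = (b : E) * ((b : E) * i) * i := by rw [b.2.2 i hi]
        _ = (b : E) * b * (i * i) := by simp only [mul_assoc]
        _ = i * i * ((b : E) * b) := (hk.2 _ (hA.sq_mem b.2.1)).symm
    rw [add_mul, mul_sub, mul_sub, e1, e2]; abel
  have hyc : y * c' = c * y := by
    rw [hc, hc', mul_sub, add_mul, ← a.2.2 y hyA, ← mul_assoc, ← b.2.2 y hyA, mul_assoc (b : E) i,
      hiy, mul_assoc, mul_neg]
    abel
  have hzero : (c + y) * (c' - y) = 0 := by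
    rw [add_mul, mul_sub c c' y, mul_sub y c' y, hcc', hyc]; abel
  have hcA : c ∈ A := A.add_mem a.2.1 hbi
  have hc'A : c' ∈ A := A.sub_mem a.2.1 hbi
  have hci : i * c = c * i := by
    rw [hc, mul_add, add_mul, a.2.2 i hi, ← mul_assoc, ← b.2.2 i hi]
  have hci' : i * c' = c' * i := by
    rw [hc', mul_sub, sub_mul, a.2.2 i hi, ← mul_assoc, ← b.2.2 i hi]
  by_cases hne : c' - y = 0
  · exact hny (by rw [← sub_eq_zero.mp hne, hci'])
  · have := hA.eq_zero_of_mul (A.add_mem hcA hyA) hzero hne
    refine hny ?_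
    rw [eq_neg_of_add_eq_zero_right this, mul_neg, neg_mul, hci]

/-- Every nonzero element is a central element times a square. -/
theorem exists_central_mul_sq (hsmall : SmallComm A) {x : E} (hx : x ∈ A) (hx0 : x ≠ 0) :
    ∃ c ∈ central A, ∃ s ∈ A, c ≠ 0 ∧ s ≠ 0 ∧ x = c * (s * s) := by
  classical
  set S := insert x (central A) with hS
  have hScomm : ∀ u ∈ S, ∀ v ∈ S, u * v = v * u := by
    rintro u (rfl | hu) v (rfl | hv)
    · rfl
    · exact (hv.2 _ hx).symm
    · exact hu.2 _ hx
    · exact central_comm u hu v hv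
  have hSA : S ⊆ A := Set.insert_subset hx fun u hu => hu.1
  set L := Subring.closure S with hL
  letI : Field L := (hA.isField_of_subring L (fun u hu => hA.closure_mem hSA hScomm hu)
    fun u hu v hv => hA.closure_comm hScomm hu hv).toField
  have hZL : ∀ {u}, u ∈ central A → u ∈ L := fun hu => Subring.subset_closure (Or.inr hu)
  have hxL : x ∈ L := Subring.subset_closure (Or.inl rfl)
  by_cases hsq : IsSquare (⟨x, hxL⟩ : L)
  · obtain ⟨s, hs⟩ := hsq
    have hs' : x = (s : E) * s := congrArg Subtype.val hs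
    refine ⟨1, (centralSubring hA).one_mem, s, hA.closure_mem hSA hScomm s.2, one_ne_zero, ?_, ?_⟩
    · intro h0; rw [h0, mul_zero] at hs'; exact hx0 hs'
    · rw [one_mul]; exact hs'
  · letI : Field (centralSubring hA) := hA.isField_central.toField
    obtain ⟨k, hk⟩ := FiniteField.exists_nonsquare
      (ringChar_ne_two hA (f := (centralSubring hA).subtype))
    have hk0 : k ≠ 0 := fun h => hk (h ▸ IsSquare.zero)
    have hkL : ¬ IsSquare (⟨(k : E), hZL k.2⟩ : L) := by
      rintro ⟨s, hs⟩
      have hs' : (k : E) = (s : E) * s := congrArg Subtype.val hs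
      have hsZ := hA.sq_central hsmall (hA.closure_mem hSA hScomm s.2) (hs' ▸ k.2)
      exact hk ⟨⟨s, hsZ⟩, Subtype.ext hs'⟩
    obtain ⟨s, hs⟩ := isSquare_mul_of_not (ringChar_ne_two hA (f := L.subtype)) hkL hsq
    have hs' : (k : E) * x = (s : E) * s := congrArg Subtype.val hs
    obtain ⟨l, hl⟩ : ∃ l : centralSubring hA, l * k = 1 := ⟨k⁻¹, inv_mul_cancel₀ hk0⟩
    have hl' : (l : E) * k = 1 := congrArg Subtype.val hl
    refine ⟨l, l.2, s, hA.closure_mem hSA hScomm s.2, ?_, ?_, ?_⟩
    · intro h; rw [h, zero_mul] at hl'; exact zero_ne_one hl'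
    · intro h
      rw [h, mul_zero] at hs'
      exact hx0 (by rw [← one_mul x, ← hl', mul_assoc, hs', mul_zero])
    · rw [← hs', ← mul_assoc, hl', one_mul]

/-- No additive map fixing the central multiples of the even powers of `y` negates `y ≠ 0`. -/
theorem no_negated (hsmall : SmallComm A) (f : E → E)
    (hfA : ∀ a ∈ A, ∀ b ∈ A, f (a + b) = f a + f b)
    {y : E} (hy : y ∈ A) (hfy : f y = -y)
    (hfix : ∀ c ∈ central A, ∀ n : ℕ, f (c * (y * y) ^ n) = c * (y * y) ^ n) : y = 0 := by
  classical
  by_contra hy0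
  set S := insert y (central A) with hS
  have hScomm : ∀ u ∈ S, ∀ v ∈ S, u * v = v * u := by
    rintro u (rfl | hu) v (rfl | hv)
    · rfl
    · exact (hv.2 _ hy).symm
    · exact hu.2 _ hy
    · exact central_comm u hu v hv
  have hSA : S ⊆ A := Set.insert_subset hy fun u hu => hu.1
  set L := Subring.closure S with hL
  have hLA : ∀ {u}, u ∈ L → u ∈ A := fun hu => hA.closure_mem hSA hScomm hu
  have hLc : ∀ {u v}, u ∈ L → v ∈ L → u * v = v * u := fun hu hv => hA.closure_comm hScomm hu hv
  have hf0 : f 0 = 0 := by simpa using hfA 0 A.zero_mem 0 A.zero_mem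
  have hyL : y ∈ L := Subring.subset_closure (Or.inl rfl)
  set L0 := Subring.closure (insert (y * y) (central A)) with hL0
  have hL0L : L0 ≤ L := Subring.closure_le.mpr (Set.insert_subset (L.mul_mem hyL hyL)
    fun u hu => Subring.subset_closure (Or.inr hu))
  have hfL0 : ∀ u ∈ L0, f u = u := by
    have hmon : ∀ u ∈ Submonoid.closure (insert (y * y) (central A)),
        ∃ c ∈ central A, ∃ n : ℕ, u = c * (y * y) ^ n := by
      intro u hu
      induction hu using Submonoid.closure_induction with
      | mem u hu =>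
        rcases hu with rfl | hu
        · exact ⟨1, (centralSubring hA).one_mem, 1, by rw [one_mul, pow_one]⟩
        · exact ⟨u, hu, 0, by rw [pow_zero, mul_one]⟩
      | one => exact ⟨1, (centralSubring hA).one_mem, 0, by rw [pow_zero, mul_one]⟩
      | mul u v _ _ hu hv =>
        obtain ⟨c, hc, n, rfl⟩ := hu
        obtain ⟨d, hd, m, rfl⟩ := hv
        refine ⟨c * d, (centralSubring hA).mul_mem hc hd, n + m, ?_⟩
        have hyn : (y * y) ^ n ∈ A := hLA (L.pow_mem (L.mul_mem hyL hyL) n)
        rw [pow_add, mul_assoc, ← mul_assoc ((y * y) ^ n), ← hd.2 _ hyn, mul_assoc, mul_assoc]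
    intro u hu
    rw [hL0, Subring.mem_closure_iff] at hu
    have hmem : ∀ w ∈ Submonoid.closure (insert (y * y) (central A)), w ∈ A ∧ f w = w := by
      intro w hw
      obtain ⟨c, hc, n, rfl⟩ := hmon w hw
      exact ⟨hLA (L.mul_mem (Subring.subset_closure (Or.inr hc))
        (L.pow_mem (L.mul_mem hyL hyL) n)), hfix c hc n⟩
    suffices h : u ∈ A ∧ f u = u from h.2
    induction hu using AddSubgroup.closure_induction with
    | mem w hw => exact hmem w hw
    | zero => exact ⟨A.zero_mem, hf0⟩
    | add v w _ _ hv hw => exact ⟨A.add_mem hv.1 hw.1, by rw [hfA v hv.1 w hw.1, hv.2, hw.2]⟩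
    | neg w _ hw =>
      refine ⟨A.neg_mem hw.1, ?_⟩
      have h := hfA w hw.1 (-w) (A.neg_mem hw.1)
      rw [add_neg_cancel, hf0, hw.2] at h
      exact eq_neg_of_add_eq_zero_right h.symm
  letI : Field L := (hA.isField_of_subring L (fun u hu => hLA hu)
    fun u hu v hv => hLc hu hv).toField
  letI : Field L0 := (hA.isField_of_subring L0 (fun u hu => hLA (hL0L hu))
    fun u hu v hv => hLc (hL0L hu) (hL0L hv)).toField
  letI : Field (centralSubring hA) := hA.isField_central.toField
  have hd : y * y ∈ L0 := Subring.subset_closure (Or.inl rfl)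
  -- `y * y` is no square in the fixed field
  have hdns : ¬ IsSquare (⟨y * y, hd⟩ : L0) := by
    rintro ⟨w, hw⟩
    have hw' : y * y = (w : E) * w := congrArg Subtype.val hw
    have hz : (y - (w : E)) * (y + (w : E)) = 0 := by
      rw [sub_mul, mul_add, mul_add, hLc (hL0L w.2) hyL, hw']; abel
    have hmov : f y ≠ y := fun h => hy0 (hA.eq_zero_of_add_self (by
      rw [hfy] at h; rw [← eq_neg_iff_add_eq_zero]; exact h.symm))
    by_cases h : y + (w : E) = 0
    · refine hmov ?_
      rw [eq_neg_of_add_eq_zero_left h]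
      exact hfL0 _ (L0.neg_mem w.2)
    · refine hmov ?_
      rw [sub_eq_zero.mp (hA.eq_zero_of_mul (A.sub_mem hy (hLA (hL0L w.2))) hz h)]
      exact hfL0 _ w.2
  obtain ⟨k, hk⟩ := FiniteField.exists_nonsquare
    (ringChar_ne_two hA (f := (centralSubring hA).subtype))
  have hkL0 : (k : E) ∈ L0 := Subring.subset_closure (Or.inr k.2)
  obtain ⟨s, hsL, hs⟩ : ∃ s ∈ L, (k : E) = s * s := by
    by_cases hksq : IsSquare (⟨(k : E), hkL0⟩ : L0)
    · obtain ⟨w, hw⟩ := hksq
      exact ⟨w, hL0L w.2, congrArg Subtype.val hw⟩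
    · obtain ⟨w, hw⟩ := isSquare_mul_of_not (ringChar_ne_two hA (f := L0.subtype)) hksq hdns
      have hw' : (k : E) * (y * y) = (w : E) * w := congrArg Subtype.val hw
      obtain ⟨y', hy', hyy'⟩ : ∃ y' ∈ L, y * y' = 1 := by
        have hne : (⟨y, hyL⟩ : L) ≠ 0 := fun h => hy0 (congrArg Subtype.val h)
        exact ⟨((⟨y, hyL⟩ : L)⁻¹ : L), SetLike.coe_mem _,
          congrArg Subtype.val (mul_inv_cancel₀ hne)⟩
      refine ⟨w * y', L.mul_mem (hL0L w.2) hy', ?_⟩
      calc (k : E) = (k : E) * ((y * y') * (y * y')) := by rw [hyy', mul_one, mul_one]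
        _ = (k : E) * (y * y) * (y' * y') := by
          rw [mul_assoc (k : E)]; congr 1
          simp only [mul_assoc]; congr 1
          rw [← mul_assoc, ← mul_assoc, hLc hy' hyL]
        _ = (w : E) * w * (y' * y') := by rw [hw']
        _ = (w : E) * y' * ((w : E) * y') := by
          simp only [mul_assoc]; congr 1
          rw [← mul_assoc, ← mul_assoc, hLc (hL0L w.2) hy']
  have hsZ := hA.sq_central hsmall (hLA hsL) (hs ▸ k.2)
  exact hk ⟨⟨s, hsZ⟩, Subtype.ext hs⟩

end IsJord

end Cfsg.Agent.Lib.RankOneFF.Jordan
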