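import Mathlib

/-!
# Two quadratic offenders in a group with a strongly embedded subgroup

`H` acts on the finite abelian group `W`, `X` controls the fusion of its nontrivial `p`-elements
strongly, `A ≤ X` is a quadratic offender and `g ∉ X`.  By induction on `⟨A, gAg⁻¹⟩` the two fixed
spaces `C`, `C'` have index `|A|`, span `W`, and `a ↦ a z - z` identifies `A` with `C / (C ∩ C')`.
-/

set_option autoImplicit false

namespace Cfsg.Agent.Lib.RankOneFF

variable {H : Type*} [Group H] {W : Type*} [AddCommGroup W] [DistribMulAction H W]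

/-- The fixed points. -/
def fixW (W : Type*) [AddCommGroup W] [DistribMulAction H W] (A : Subgroup H) : AddSubgroup W where
  carrier := {w | ∀ a ∈ A, a • w = w}
  zero_mem' := fun a _ => smul_zero a
  add_mem' := fun {x y} hx hy a ha => by rw [smul_add, hx a ha, hy a ha]
  neg_mem' := fun {x} hx a ha => by rw [smul_neg, hx a ha]

theorem mem_fixW {A : Subgroup H} {w : W} : w ∈ fixW W A ↔ ∀ a ∈ A, a • w = w := Iff.rfl

/-- The conjugate subgroup. -/
abbrev cjS (g : H) (A : Subgroup H) : Subgroup H := A.map (MulAut.conj g).toMonoidHom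

theorem mem_cjS {g x : H} {A : Subgroup H} : x ∈ cjS g A ↔ g⁻¹ * x * g ∈ A := by
  constructor
  · rintro ⟨a, ha, rfl⟩
    simpa [mul_assoc] using ha
  · intro h
    exact ⟨_, h, by simp [mul_assoc]⟩

theorem conj_mem_cjS {g a : H} {A : Subgroup H} (ha : a ∈ A) : g * a * g⁻¹ ∈ cjS g A :=
  ⟨a, ha, rfl⟩

theorem card_cjS (g : H) (A : Subgroup H) : Nat.card (cjS g A) = Nat.card A :=
  Nat.card_congr (A.equivMapOfInjective _ (MulAut.conj g).injective).toEquiv.symm

theorem mem_fixW_cjS {g : H} {A : Subgroup H} {w : W} :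
    w ∈ fixW W (cjS g A) ↔ g⁻¹ • w ∈ fixW W A := by
  constructor
  · intro h a ha
    have h1 := h _ (conj_mem_cjS (g := g) ha)
    rw [mul_smul, mul_smul] at h1
    exact eq_inv_smul_iff.mpr h1
  · intro h x hx
    have h1 := h _ (mem_cjS.mp hx)
    rw [mul_smul, mul_smul, smul_inv_smul] at h1
    exact smul_left_cancel _ h1

theorem card_fixW_cjS (g : H) (A : Subgroup H) :
    Nat.card (fixW W (cjS g A)) = Nat.card (fixW W A) :=
  Nat.card_congr
    { toFun := fun w => ⟨g⁻¹ • (w : W), mem_fixW_cjS.mp w.2⟩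
      invFun := fun w => ⟨g • (w : W), mem_fixW_cjS.mpr (by rw [inv_smul_smul]; exact w.2)⟩
      left_inv := fun w => Subtype.ext (smul_inv_smul g (w : W))
      right_inv := fun w => Subtype.ext (inv_smul_smul g (w : W)) }

/-- `X` contains no nontrivial `p`-element together with a conjugate of it by an outside element. -/
def SEp (p : ℕ) (X : Subgroup H) : Prop :=
  ∀ g u : H, u ∈ X → u ≠ 1 → (∃ n : ℕ, u ^ p ^ n = 1) → g * u * g⁻¹ ∈ X → g ∈ X

theorem SEp.cjS {p : ℕ} {X : Subgroup H} (hX : SEp p X) (c : H) :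
    SEp p (RankOneFF.cjS c X) := by
  intro g u hu hu1 ⟨n, hn⟩ hgu
  rw [mem_cjS] at hu hgu ⊢
  have hconj : c⁻¹ * u * c = c⁻¹ * u * (c⁻¹)⁻¹ := by rw [inv_inv]
  refine hX _ _ hu (fun h => hu1 ?_) ⟨n, ?_⟩ ?_
  · rw [hconj, conj_eq_one_iff] at h
    exact h
  · rw [hconj, conj_pow, hn, mul_one, mul_inv_cancel]
  · convert hgu using 1
    group

/-- A quadratic offender. -/
structure QOff (p : ℕ) (W : Type*) [AddCommGroup W] [DistribMulAction H W] (A : Subgroup H) :
    Prop where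
  pgroup : IsPGroup p A
  ne : A ≠ ⊥
  quad : ∀ a ∈ A, ∀ w : W, a • w - w ∈ fixW W A
  off : Nat.card W ≤ Nat.card A * Nat.card (fixW W A)

namespace QOff

variable {p : ℕ} {A : Subgroup H}

theorem pow_elem (hA : QOff p W A) {a : H} (ha : a ∈ A) : ∃ n : ℕ, a ^ p ^ n = 1 := by
  obtain ⟨n, hn⟩ := hA.pgroup ⟨a, ha⟩
  exact ⟨n, congrArg Subtype.val hn⟩

theorem cjS (hA : QOff p W A) (g : H) : QOff p W (RankOneFF.cjS g A) where
  pgroup := hA.pgroup.map _
  ne h := hA.ne ((Subgroup.map_eq_bot_iff_of_injective A (MulAut.conj g).injective).mp h)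
  quad a ha w := by
    rw [mem_fixW_cjS]
    have h := hA.quad _ (mem_cjS.mp ha) (g⁻¹ • w)
    rwa [mul_smul, mul_smul, smul_inv_smul, ← smul_sub] at h
  off := by rw [card_cjS, card_fixW_cjS]; exact hA.off

end QOff

/-- Two elements fixing `C` pointwise with commutators in `C` commute on `W`. -/
theorem commute_of_series [FaithfulSMul H W] {C : AddSubgroup W} {a b : H}
    (ha : ∀ w ∈ C, a • w = w) (hb : ∀ w ∈ C, b • w = w) (ha' : ∀ w : W, a • w - w ∈ C)
    (hb' : ∀ w : W, b • w - w ∈ C) : a * b = b * a := by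
  refine FaithfulSMul.eq_of_smul_eq_smul (α := W) fun w => ?_
  have h1 := ha _ (hb' w)
  have h2 := hb _ (ha' w)
  rw [smul_sub, sub_eq_iff_eq_add] at h1 h2
  rw [mul_smul, mul_smul, h1, h2]
  abel

/-- The conclusion for a pair. -/
structure PairData (W : Type*) [AddCommGroup W] [DistribMulAction H W] (A B : Subgroup H) :
    Prop where
  ne : ∃ z ∈ fixW W B, z ∉ fixW W A
  key : ∀ a ∈ A, a ≠ 1 → ∀ z ∈ fixW W B, a • z ∈ fixW W B → z ∈ fixW W A
  card_index : Nat.card W = Nat.card A * Nat.card A * Nat.card ↥(fixW W A ⊓ fixW W B)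
  card_fix : Nat.card (fixW W A) = Nat.card A * Nat.card ↥(fixW W A ⊓ fixW W B)
  sup : ∀ w : W, ∃ c ∈ fixW W A, ∃ c' ∈ fixW W B, c + c' = w
  surj : ∀ z ∈ fixW W B, z ∉ fixW W A → ∀ c ∈ fixW W A,
    ∃ a ∈ A, a • z - z - c ∈ fixW W A ⊓ fixW W B

theorem card_add_mul_card_inf [Finite W] (C D : AddSubgroup W) :
    Nat.card C * Nat.card D =
      Nat.card ((C.subtype.coprod D.subtype).range) * Nat.card ↥(C ⊓ D) := by
  set f := C.subtype.coprod D.subtype with hf
  rw [← Nat.card_prod, ← f.ker.index_mul_card, AddSubgroup.index_ker]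
  congr 1
  refine Nat.card_congr
    { toFun := fun x => ⟨((x : C × D).1 : W), (x : C × D).1.2, ?_⟩
      invFun := fun x => ⟨(⟨x, x.2.1⟩, ⟨-(x : W), D.neg_mem x.2.2⟩), ?_⟩
      left_inv := fun x => ?_
      right_inv := fun x => rfl }
  · have h : ((x : C × D).1 : W) + ((x : C × D).2 : W) = 0 := x.2
    rw [eq_neg_of_add_eq_zero_left h]
    exact D.neg_mem (x : C × D).2.2
  · show (x : W) + -(x : W) = 0
    exact add_neg_cancel _
  · have h : ((x : C × D).1 : W) + ((x : C × D).2 : W) = 0 := x.2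
    exact Subtype.ext (Prod.ext rfl (Subtype.ext (neg_eq_of_add_eq_zero_right h)))

variable [Finite H] [Finite W] [FaithfulSMul H W] {p : ℕ}

/-- The basic lemma on two offenders. -/
theorem pairData {X A : Subgroup H} {g : H} (hX : SEp p X) (hA : QOff p W A) (hAX : A ≤ X)
    (hg : g ∉ X) : PairData W A (cjS g A) := by
  suffices h : ∀ n : ℕ, ∀ (X A : Subgroup H) (g : H), SEp p X → QOff p W A → A ≤ X → g ∉ X →
      Nat.card ↥(A ⊔ cjS g A) = n → PairData W A (cjS g A) from h _ X A g hX hA hAX hg rfl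
  intro n
  induction n using Nat.strong_induction_on with
  | _ n ih =>
  intro X A g hX hA hAX hg hn
  set B := cjS g A with hB
  set C := fixW W A with hC
  set C' := fixW W B with hC'
  set q := Nat.card A with hq
  have hfix : ∀ a ∈ A, ∀ w ∈ C ⊓ C', a • w = w := fun a ha w hw => hw.1 a ha
  have hCC' : Nat.card C' = Nat.card C := card_fixW_cjS g A
  have hsum := card_add_mul_card_inf C C'
  rw [hCC'] at hsum
  have hrange : Nat.card ((C.subtype.coprod C'.subtype).range) ≤ Nat.card W :=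
    AddSubgroup.card_le_card_addGroup _
  have hoff : Nat.card W ≤ q * Nat.card C := hA.off
  have hbound : Nat.card W ≤ q * q * Nat.card ↥(C ⊓ C') := by
    refine Nat.le_of_mul_le_mul_left ?_ (Nat.card_pos (α := W))
    calc Nat.card W * Nat.card W ≤ (q * Nat.card C) * (q * Nat.card C) :=
          Nat.mul_le_mul hoff hoff
      _ = q * q * (Nat.card C * Nat.card C) := by ring
      _ ≤ q * q * (Nat.card W * Nat.card ↥(C ⊓ C')) :=
          Nat.mul_le_mul_left _ (hsum ▸ Nat.mul_le_mul_right _ hrange)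
      _ = _ := by ring
  -- the key property, by induction
  have key : ∀ a ∈ A, a ≠ 1 → ∀ z ∈ C', a • z ∈ C' → z ∈ C := by
    intro a ha ha1 z hz haz
    by_contra hzC
    have haB : a⁻¹ ∉ cjS g X := by
      intro h
      rw [mem_cjS] at h
      have h2 := X.inv_mem h
      refine hg (X.inv_mem_iff.mp (hX g⁻¹ a (hAX ha) ha1 (hA.pow_elem ha) ?_))
      convert h2 using 1
      group
    set B2 := cjS a⁻¹ B with hB2
    have hle : B ⊔ B2 ≤ A ⊔ B := by
      refine sup_le le_sup_right ?_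
      rintro _ ⟨b, hb, rfl⟩
      exact Subgroup.mul_mem _ (Subgroup.mul_mem _ (Subgroup.inv_mem _ (Subgroup.mem_sup_left ha))
        (Subgroup.mem_sup_right hb)) (Subgroup.inv_mem _ (Subgroup.inv_mem _ (Subgroup.mem_sup_left ha)))
    have hzfix : z ∈ fixW W B2 := by
      rw [hB2, mem_fixW_cjS, inv_inv]
      exact haz
    have hlt : Nat.card ↥(B ⊔ B2) < n := by
      rw [← hn]
      refine lt_of_le_of_ne (Subgroup.card_le_of_le hle) fun heq => hzC ?_
      have h2 : B ⊔ B2 = A ⊔ B := Subgroup.eq_of_le_of_card_ge hle heq.ge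
      have hstab : B ⊔ B2 ≤ MulAction.stabilizer H z := sup_le (fun b hb => hz b hb)
        (fun b hb => hzfix b hb)
      exact fun b hb => hstab (h2 ▸ Subgroup.mem_sup_left hb)
    have hd := ih _ hlt (cjS g X) B a⁻¹ (hX.cjS g) (hA.cjS g) (Subgroup.map_mono hAX) haB rfl
    have hsub : C ⊓ C' < C' ⊓ fixW W B2 := by
      refine lt_of_le_of_ne (le_inf inf_le_right fun w hw => ?_) fun heq => hzC ?_
      · show w ∈ fixW W B2
        rw [hB2, mem_fixW_cjS, inv_inv, hfix a ha w hw]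
        exact hw.2
      · have hz2 : z ∈ C ⊓ C' := heq.symm ▸ (⟨hz, hzfix⟩ : z ∈ C' ⊓ fixW W B2)
        exact hz2.1
    have hcard : Nat.card ↥(C ⊓ C') < Nat.card ↥(C' ⊓ fixW W B2) :=
      Set.ncard_lt_ncard (SetLike.coe_ssubset_coe.mpr hsub)
    have h3 := hd.card_index
    rw [card_cjS, ← hq, ← hC', ← hB2] at h3
    have h4 : q * q * Nat.card ↥(C ⊓ C') < q * q * Nat.card ↥(C' ⊓ fixW W B2) :=
      Nat.mul_lt_mul_of_pos_left hcard (Nat.mul_pos Nat.card_pos Nat.card_pos)
    omega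
  -- the fixed spaces differ
  have hne : ∃ z ∈ C', z ∉ C := by
    by_contra hcon
    push Not at hcon
    have heq : C' = C := by
      refine SetLike.coe_injective (Set.eq_of_subset_of_ncard_le hcon ?_)
      exact hCC'.ge
    obtain ⟨a, ha, ha1⟩ := A.bot_or_exists_ne_one.resolve_left hA.ne
    obtain ⟨b, hb, hb1⟩ := A.bot_or_exists_ne_one.resolve_left hA.ne
    have hbB : g * b * g⁻¹ ∈ B := conj_mem_cjS hb
    have hcomm := commute_of_series (C := C) (fun w hw => hw a ha)
      (fun w hw => (heq.symm ▸ hw : w ∈ C') _ hbB) (fun w => hA.quad a ha w)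
      (fun w => heq ▸ (hA.cjS g).quad _ hbB w)
    have h1 : g⁻¹ * a * g ∈ X := by
      refine hX _ b (hAX hb) hb1 (hA.pow_elem hb) ?_
      have : g⁻¹ * a * g * b * (g⁻¹ * a * g)⁻¹ = b := by
        calc g⁻¹ * a * g * b * (g⁻¹ * a * g)⁻¹ = g⁻¹ * (a * (g * b * g⁻¹)) * a⁻¹ * g := by group
          _ = g⁻¹ * (g * b * g⁻¹ * a) * a⁻¹ * g := by rw [hcomm]
          _ = b := by group
      rw [this]
      exact hAX hb
    refine hg (X.inv_mem_iff.mp (hX g⁻¹ a (hAX ha) ha1 (hA.pow_elem ha) ?_))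
    rwa [inv_inv]
  obtain ⟨z, hz, hzC⟩ := hne
  -- the map `(a, c) ↦ a z - z + c`
  have hmap : ∀ z ∈ C', z ∉ C → Function.Injective
      (fun x : A × ↥(C ⊓ C') => (⟨(x.1 : H) • z - z + (x.2 : W),
        C.add_mem (hA.quad _ x.1.2 z) x.2.2.1⟩ : C)) := by
    intro z hz hzC
    rintro ⟨⟨a, ha⟩, c⟩ ⟨⟨a', ha'⟩, c'⟩ heq
    have h : a • z - z + (c : W) = a' • z - z + (c' : W) := congrArg Subtype.val heq
    have h1 : a • z - a' • z = (c' : W) - c := by
      rw [sub_eq_sub_iff_add_eq_add]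
      calc a • z + (c : W) = a • z - z + (c : W) + z := by abel
        _ = a' • z - z + (c' : W) + z := by rw [h]
        _ = (c' : W) + a' • z := by abel
    have h2 : (a'⁻¹ * a) • z - z = (c' : W) - c := by
      have h3 := congrArg (a'⁻¹ • ·) h1
      simp only [smul_sub, inv_smul_smul] at h3
      rw [hfix _ (A.inv_mem ha') _ c'.2, hfix _ (A.inv_mem ha') _ c.2, ← mul_smul] at h3
      exact h3
    have h4 : a'⁻¹ * a = 1 := by
      by_contra hne'
      refine hzC (key _ (A.mul_mem (A.inv_mem ha') ha) hne' z hz ?_)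
      rw [sub_eq_iff_eq_add.mp h2]
      exact C'.add_mem (C'.sub_mem c'.2.2 c.2.2) hz
    obtain rfl : a' = a := inv_mul_eq_one.mp h4
    have h5 : c = c' := Subtype.ext (add_left_cancel h)
    rw [h5]
  have hinj := Nat.card_le_card_of_injective _ (hmap z hz hzC)
  rw [Nat.card_prod, ← hq] at hinj
  have hI : 0 < Nat.card ↥(C ⊓ C') := Nat.card_pos
  have hCpos : 0 < Nat.card C := Nat.card_pos
  have hW1 : q * Nat.card C ≤ Nat.card W := by
    refine Nat.le_of_mul_le_mul_right ?_ hI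
    calc q * Nat.card C * Nat.card ↥(C ⊓ C') = q * Nat.card ↥(C ⊓ C') * Nat.card C := by ring
      _ ≤ Nat.card C * Nat.card C := Nat.mul_le_mul_right _ hinj
      _ ≤ _ := hsum ▸ Nat.mul_le_mul_right _ hrange
  have hC1 : Nat.card C = q * Nat.card ↥(C ⊓ C') := by
    refine le_antisymm ?_ hinj
    refine Nat.le_of_mul_le_mul_left ?_ hCpos
    calc Nat.card C * Nat.card C ≤ Nat.card W * Nat.card ↥(C ⊓ C') :=
          hsum ▸ Nat.mul_le_mul_right _ hrange
      _ ≤ q * Nat.card C * Nat.card ↥(C ⊓ C') := Nat.mul_le_mul_right _ hoff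
      _ = _ := by ring
  have hWeq : Nat.card W = q * Nat.card C := le_antisymm hoff hW1
  refine ⟨⟨z, hz, hzC⟩, key, ?_, hC1, ?_, ?_⟩
  · rw [hWeq, hC1, ← hq, ← mul_assoc]
  · intro w
    have htop : (C.subtype.coprod C'.subtype).range = ⊤ := by
      refine AddSubgroup.eq_top_of_le_card _ ?_
      refine Nat.le_of_mul_le_mul_right ?_ hI
      rw [← hsum, hWeq]
      nth_rw 2 [hC1]
      exact le_of_eq (by ring)
    obtain ⟨⟨c, c'⟩, hcc⟩ := (htop ▸ AddSubgroup.mem_top w : w ∈ (C.subtype.coprod C'.subtype).range)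
    exact ⟨c, c.2, c', c'.2, hcc⟩
  · intro z' hz' hz'C c hc
    have hbij := (Nat.bijective_iff_injective_and_card _).mpr
      ⟨hmap z' hz' hz'C, by rw [Nat.card_prod, ← hq, hC1]⟩
    obtain ⟨⟨a, c0⟩, hac⟩ := hbij.2 ⟨c, hc⟩
    refine ⟨a, a.2, ?_⟩
    have h : (a : H) • z' - z' + (c0 : W) = c := congrArg Subtype.val hac
    rw [← h, sub_add_cancel_left]
    exact (C ⊓ C').neg_mem c0.2

end Cfsg.Agent.Lib.RankOneFF
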