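import Cfsg.Agent.Lib.RankOneFF.Coordinates

/-!
# Coordinates for a generating pair of quadratic offenders

The construction of `exists_sl_two` from the pair data alone (helper69, after helper6): no strongly
embedded subgroup is assumed.
-/

set_option autoImplicit false

namespace Cfsg.Agent.Lib.RankOneFF

open Matrix

variable {H : Type*} [Group H] [Finite H] {W : Type*} [AddCommGroup W] [Finite W]
  [DistribMulAction H W] [FaithfulSMul H W] {p : ℕ}

/-- Two generating offenders in pair position give `SL₂(q)` on its natural module. -/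
theorem exists_sl_two_of_pair [hp : Fact p.Prime] (hpW : ∀ w : W, p • w = 0) {A B : Subgroup H}
    (hAne : A ≠ ⊥) (hAquad : ∀ a ∈ A, ∀ w : W, a • w - w ∈ fixW W A)
    (hBquad : ∀ b ∈ B, ∀ w : W, b • w - w ∈ fixW W B) (hBA : Nat.card B ≤ Nat.card A)
    (pd : PairData W A B) (htop : ∀ h : H, h ∈ A ⊔ B)
    (hpairs : ∀ a ∈ A, a ≠ 1 → ∃ b ∈ B, cjS b A = cjS a B)
    (hker' : ∀ h : H, h ^ p = 1 → (∀ w : W, ∀ x : H, x • (h • w - w) = h • w - w) → h = 1) :
    ∃ (F : Type) (_ : Field F) (_ : Fintype F) (_ : Fintype.card F = Nat.card A)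
      (ρ : H ≃* Matrix.SpecialLinearGroup (Fin 2) F)
      (θ : W →+ (Fin 2 → F)), Function.Surjective θ ∧
        (∀ w : W, θ w = 0 ↔ ∀ h : H, h • w = w) ∧
        ∀ (h : H) (w : W), θ (h • w) = ((ρ h : Matrix.SpecialLinearGroup (Fin 2) F) :
          Matrix (Fin 2) (Fin 2) F) *ᵥ θ w := by
  classical
  set C := fixW W A with hC
  set C' := fixW W B with hC'
  have hZ : ∀ w : W, w ∈ C ⊓ C' ↔ ∀ h : H, h • w = w := fun w =>
    ⟨fun hw h => (sup_le (c := MulAction.stabilizer H w) (fun a ha => hw.1 a ha)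
      (fun b hb => hw.2 b hb)) (htop h), fun hw => ⟨fun a _ => hw a, fun b _ => hw b⟩⟩
  set q := Nat.card A with hq
  -- the quotient `P`
  obtain ⟨P, instP, qC, hqsurj, hqC0⟩ : ∃ (P : Type _) (_ : AddCommGroup P) (qC : C →+ P),
      Function.Surjective qC ∧ ∀ c : C, qC c = 0 ↔ (c : W) ∈ C ⊓ C' :=
    ⟨C ⧸ (C ⊓ C').addSubgroupOf C, inferInstance, QuotientAddGroup.mk' _,
      QuotientAddGroup.mk'_surjective _,
      fun c => (QuotientAddGroup.eq_zero_iff c).trans AddSubgroup.mem_addSubgroupOf⟩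
  haveI : Finite P := Finite.of_surjective qC hqsurj
  -- `δ a w` is the class of `a w - w`
  let δ : A → W →+ P := fun a =>
    qC.comp (AddMonoidHom.mk' (fun w => (⟨(a : H) • w - w, hAquad a a.2 w⟩ : C))
      fun v w => Subtype.ext (by
        show (a : H) • (v + w) - (v + w) = ((a : H) • v - v) + ((a : H) • w - w)
        rw [smul_add]; abel))
  have hδ : ∀ (a : A) (w : W), δ a w = qC ⟨(a : H) • w - w, hAquad a a.2 w⟩ := fun _ _ => rfl
  have hδmul : ∀ (a a' : A) (w : W), δ (a * a') w = δ a w + δ a' w := fun a a' w => by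
    rw [hδ, hδ, hδ, ← map_add]
    refine congrArg qC (Subtype.ext ?_)
    show ((a * a' : A) : H) • w - w = ((a : H) • w - w) + ((a' : H) • w - w)
    have h1 := hAquad a' a'.2 w a a.2
    rw [smul_sub] at h1
    rw [Subgroup.coe_mul, mul_smul, ← h1]
    abel
  have hδC : ∀ (a : A) (w : W), w ∈ C → δ a w = 0 := fun a w hw => by
    rw [hδ, hqC0]
    simp only [hw a a.2, sub_self]
    exact (C ⊓ C').zero_mem
  have hδker : ∀ (a : A), (a : H) ≠ 1 → ∀ y ∈ C', δ a y = 0 → y ∈ C := fun a ha y hy h => by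
    rw [hδ, hqC0] at h
    refine pd.key a a.2 ha y hy ?_
    have := C'.add_mem h.2 hy
    rwa [sub_add_cancel] at this
  -- pairing
  have hpair : ∀ (a : A) (b : B), cjS (b : H) A = cjS (a : H) B →
      ∀ c : C, δ a ((b : H) • (c : W) - c) = qC c := by
    intro a b hab c
    set y := (b : H) • (c : W) - c with hy
    have hyC' : y ∈ C' := hBquad b b.2 c
    have h1 : (b : H) • (c : W) ∈ fixW W (cjS (a : H) B) := by
      rw [← hab, mem_fixW_cjS, inv_smul_smul]
      exact c.2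
    rw [mem_fixW_cjS] at h1
    have h2 : (a : H)⁻¹ • (b : H) • (c : W) = (c : W) + (a : H)⁻¹ • y := by
      conv_rhs => rw [← c.2 (a : H)⁻¹ (A.inv_mem a.2)]
      rw [hy, ← smul_add, add_sub_cancel]
    have h3 : (a : H) • y - y = -((a : H)⁻¹ • y - y) := by
      have h4 := hAquad _ (A.inv_mem a.2) y a a.2
      rw [smul_sub, smul_inv_smul] at h4
      rw [← h4]; abel
    rw [hδ, ← sub_eq_zero, ← map_sub, hqC0]
    refine ⟨C.sub_mem (hAquad a a.2 y) c.2, ?_⟩
    show (a : H) • y - y - (c : W) ∈ C'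
    rw [h3, show -((a : H)⁻¹ • y - y) - (c : W) = y - ((c : W) + (a : H)⁻¹ • y) by abel, ← h2]
    exact C'.sub_mem hyC' h1
  obtain ⟨a₀h, ha₀, ha₀1⟩ := A.bot_or_exists_ne_one.resolve_left hAne
  obtain ⟨b₁h, hb₁, hb₁p⟩ := hpairs _ ha₀ ha₀1
  set a₀ : A := ⟨a₀h, ha₀⟩
  set b₁ : B := ⟨b₁h, hb₁⟩
  -- coordinates
  let π2 : W →+ P := δ a₀
  let sub : B → W →+ W := fun b =>
    DistribSMul.toAddMonoidHom W (b : H) - AddMonoidHom.id W
  have hsub : ∀ (b : B) (w : W), sub b w = (b : H) • w - w := fun _ _ => rfl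
  let π1 : W →+ P := π2.comp (sub b₁)
  have hπ1C : ∀ c : C, π1 c = qC c := fun c => hpair a₀ b₁ hb₁p c
  have hπ1C' : ∀ y ∈ C', π1 y = 0 := fun y hy => by
    show π2 (sub b₁ y) = 0
    rw [hsub, hy b₁ b₁.2, sub_self, map_zero]
  have hπ2C : ∀ c ∈ C, π2 c = 0 := fun c hc => hδC a₀ c hc
  have hsup : ∀ w : W, ∃ c : C, ∃ y ∈ C', (c : W) + y = w := fun w => by
    obtain ⟨c, hc, y, hy, h⟩ := pd.sup w
    exact ⟨⟨c, hc⟩, y, hy, h⟩
  have hlift : ∀ f : C →+ P, (∀ c : C, (c : W) ∈ C ⊓ C' → f c = 0) →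
      ∃ m : AddMonoid.End P, ∀ c : C, m (qC c) = f c := fun f hf =>
    ⟨qC.liftOfSurjective hqsurj ⟨f, fun c hc => hf c ((hqC0 c).mp hc)⟩,
      fun c => qC.liftOfRightInverse_comp_apply _ _ _ c⟩
  choose M hM using fun a : A => hlift (((δ a).comp (sub b₁)).comp C.subtype) fun c hc => by
    show δ a ((b₁ : H) • (c : W) - c) = 0
    rw [hc.2 b₁ b₁.2, sub_self, map_zero]
  choose N hN using fun b : B => hlift ((π2.comp (sub b)).comp C.subtype) fun c hc => by
    show π2 ((b : H) • (c : W) - c) = 0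
    rw [hc.2 b b.2, sub_self, map_zero]
  replace hM : ∀ (a : A) (c : C), M a (qC c) = δ a ((b₁ : H) • (c : W) - c) := hM
  replace hN : ∀ (b : B) (c : C), N b (qC c) = π2 ((b : H) • (c : W) - c) := hN
  have hMπ : ∀ (a : A) (w : W), δ a w = M a (π2 w) := by
    intro a w
    obtain ⟨c, y, hy, rfl⟩ := hsup w
    rw [map_add, map_add, hδC a c c.2, hπ2C c c.2, zero_add, zero_add]
    obtain ⟨c₁, hc₁⟩ := hqsurj (π2 y)
    rw [← hc₁, hM]
    have h1 : π2 (y - ((b₁ : H) • (c₁ : W) - c₁)) = 0 := by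
      have h2 : π2 ((b₁ : H) • (c₁ : W) - c₁) = qC c₁ := hpair a₀ b₁ hb₁p c₁
      rw [map_sub, h2, hc₁, sub_self]
    have h3 := hδC a _ (hδker a₀ ha₀1 _ (C'.sub_mem hy (hBquad b₁ b₁.2 c₁)) h1)
    rwa [map_sub, sub_eq_zero] at h3
  have hπ1a : ∀ (a : A) (w : W), π1 ((a : H) • w) = π1 w + M a (π2 w) := by
    intro a w
    rw [← hMπ, hδ, ← hπ1C, ← map_add]
    congr 1
    exact (add_sub_cancel w _).symm
  have hπ2a : ∀ (a : A) (w : W), π2 ((a : H) • w) = π2 w := by
    intro a w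
    have h1 := hπ2C _ (hAquad a a.2 w)
    rwa [map_sub, sub_eq_zero] at h1
  have hπ1b : ∀ (b : B) (w : W), π1 ((b : H) • w) = π1 w := by
    intro b w
    have h1 := hπ1C' _ (hBquad b b.2 w)
    rwa [map_sub, sub_eq_zero] at h1
  have hπ2b : ∀ (b : B) (w : W), π2 ((b : H) • w) = N b (π1 w) + π2 w := by
    intro b w
    rw [← sub_eq_iff_eq_add, ← map_sub]
    obtain ⟨c, y, hy, rfl⟩ := hsup w
    rw [map_add π1, hπ1C' y hy, add_zero, hπ1C, hN, smul_add, hy b b.2, add_sub_add_right_eq_sub]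
  -- the two sets of endomorphisms
  haveI : Finite (AddMonoid.End P) :=
    Finite.of_injective (fun f => (f : P → P)) DFunLike.coe_injective
  have hMadd : ∀ a a' : A, M (a * a') = M a + M a' := fun a a' => AddMonoidHom.ext fun x => by
    obtain ⟨c, rfl⟩ := hqsurj x
    show M (a * a') (qC c) = M a (qC c) + M a' (qC c)
    rw [hM, hM, hM, hδmul]
  have hNadd : ∀ b b' : B, N (b * b') = N b + N b' := fun b b' => AddMonoidHom.ext fun x => by
    obtain ⟨c, rfl⟩ := hqsurj x
    show N (b * b') (qC c) = N b (qC c) + N b' (qC c)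
    rw [hN, hN, hN, ← map_add]
    congr 1
    have h1 := hBquad b' b'.2 (c : W) b b.2
    rw [smul_sub] at h1
    rw [Subgroup.coe_mul, mul_smul, ← h1]
    abel
  let S : AddSubgroup (AddMonoid.End P) :=
    (AddMonoidHom.mk' (fun a : Additive A => M (Additive.toMul a)) fun a a' => hMadd _ _).range
  let T : AddSubgroup (AddMonoid.End P) :=
    (AddMonoidHom.mk' (fun b : Additive B => N (Additive.toMul b)) fun b b' => hNadd _ _).range
  have hmemS : ∀ m, m ∈ S ↔ ∃ a : A, M a = m := fun m =>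
    ⟨fun ⟨a, ha⟩ => ⟨Additive.toMul a, ha⟩, fun ⟨a, ha⟩ => ⟨Additive.ofMul a, ha⟩⟩
  have hmemT : ∀ m, m ∈ T ↔ ∃ b : B, N b = m := fun m =>
    ⟨fun ⟨b, hb⟩ => ⟨Additive.toMul b, hb⟩, fun ⟨b, hb⟩ => ⟨Additive.ofMul b, hb⟩⟩
  obtain ⟨y₀, hy₀, hy₀C⟩ := pd.ne
  have hMone : M 1 = 0 := by
    have h := hMadd 1 1
    rw [mul_one] at h
    exact left_eq_add.mp h
  have hMzero : ∀ a : A, M a = 0 → (a : H) = 1 := fun a ha => by_contra fun h1 =>
    hy₀C (hδker a h1 y₀ hy₀ (by rw [hMπ, ha]; rfl))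
  have hMinj : Function.Injective M := by
    intro a a' h
    have h1 : M (a'⁻¹ * a) = 0 := by
      rw [hMadd, h, ← hMadd, inv_mul_cancel, hMone]
    exact (inv_mul_eq_one.mp (Subtype.ext (hMzero _ h1))).symm
  have hone : M a₀ = 1 := AddMonoidHom.ext fun x => by
    obtain ⟨c, rfl⟩ := hqsurj x
    show M a₀ (qC c) = qC c
    rw [hM]
    exact hpair a₀ b₁ hb₁p c
  have hcomm1 : ∀ x y : AddMonoid.End P, x * y = 1 → y * x = 1 := fun x y h => by
    have hinj : Function.Injective y := fun u v huv => by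
      calc u = (x * y) u := by rw [h]; rfl
        _ = x (y v) := congrArg x huv
        _ = (x * y) v := rfl
        _ = v := by rw [h]; rfl
    refine AddMonoidHom.ext fun u => ?_
    obtain ⟨v, rfl⟩ := Finite.injective_iff_surjective.mp hinj u
    exact congrArg y (DFunLike.congr_fun h v)
  have hST : ∀ m ∈ S, m ≠ 0 → ∃ n ∈ T, m * n = 1 ∧ n * m = 1 := by
    intro m hm hm0
    obtain ⟨a, rfl⟩ := (hmemS m).mp hm
    have ha1 : (a : H) ≠ 1 := fun h => hm0 (by rw [show a = 1 from Subtype.ext h, hMone])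
    obtain ⟨bh, hbh, hbp⟩ := hpairs _ a.2 ha1
    have h1 : M a * N ⟨bh, hbh⟩ = 1 := AddMonoidHom.ext fun x => by
      obtain ⟨c, rfl⟩ := hqsurj x
      show M a (N ⟨bh, hbh⟩ (qC c)) = qC c
      rw [hN, ← hMπ]
      exact hpair a ⟨bh, hbh⟩ hbp c
    exact ⟨_, (hmemT _).mpr ⟨_, rfl⟩, h1, hcomm1 _ _ h1⟩
  haveI hPnt : Nontrivial P := by
    refine ⟨π2 y₀, 0, fun h => hy₀C (hδker a₀ ha₀1 y₀ hy₀ h)⟩
  haveI : Nontrivial (AddMonoid.End P) := by
    obtain ⟨x, hx⟩ := exists_ne (0 : P)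
    exact ⟨0, 1, fun he => hx (DFunLike.congr_fun he x).symm⟩
  have hcardS : Nat.card S = q :=
    (Nat.card_congr (Equiv.ofBijective (fun a : A => (⟨M a, (hmemS _).mpr ⟨a, rfl⟩⟩ : S))
      ⟨fun a a' h => hMinj (congrArg Subtype.val h),
        fun m => ((hmemS _).mp m.2).imp fun a ha => Subtype.ext ha⟩)).symm
  have hcardT : Nat.card T ≤ q := by
    refine le_trans ?_ hBA
    exact Nat.card_le_card_of_surjective (fun b : B => (⟨N b, (hmemT _).mpr ⟨b, rfl⟩⟩ : T))
      fun m => ((hmemT _).mp m.2).imp fun b hb => Subtype.ext hb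
  have hTS : ∀ n ∈ T, n ≠ 0 → ∃ m ∈ S, m * n = 1 ∧ n * m = 1 := by
    have hchoose : ∀ m : S, (m : AddMonoid.End P) ≠ 0 → ∃ n : T,
        (m : AddMonoid.End P) * n = 1 ∧ (n : AddMonoid.End P) * m = 1 := fun m hm => by
      obtain ⟨n, hn, h⟩ := hST m m.2 hm
      exact ⟨⟨n, hn⟩, h⟩
    let f : S → T := fun m => if hm : (m : AddMonoid.End P) = 0 then 0 else (hchoose m hm).choose
    have hf : ∀ m : S, (m : AddMonoid.End P) ≠ 0 →
        (m : AddMonoid.End P) * f m = 1 ∧ (f m : AddMonoid.End P) * m = 1 := fun m hm => by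
      simp only [f, dif_neg hm]
      exact (hchoose m hm).choose_spec
    have hf0 : ∀ m : S, f m = 0 → (m : AddMonoid.End P) = 0 := fun m hm => by_contra fun h0 => by
      have := (hf m h0).1
      rw [hm, AddSubgroup.coe_zero, mul_zero] at this
      exact zero_ne_one this
    have hinj : Function.Injective f := by
      intro m m' h
      by_cases hm : (m : AddMonoid.End P) = 0
      · exact Subtype.ext (hm.trans (hf0 m' (by rw [← h]; simp only [f, dif_pos hm])).symm)
      · have hm' : (m' : AddMonoid.End P) ≠ 0 := fun h' => hm (hf0 m (by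
          rw [h]; simp only [f, dif_pos h']))
        exact Subtype.ext (left_inv_eq_right_inv (hf m hm).1 (h ▸ (hf m' hm').2))
    have hsurj := (Function.Injective.bijective_of_nat_card_le hinj (hcardS.symm ▸ hcardT)).2
    intro n hn hn0
    obtain ⟨m, hm⟩ := hsurj ⟨n, hn⟩
    have hm0 : (m : AddMonoid.End P) ≠ 0 := fun h0 => hn0 (by
      have : f m = 0 := by simp only [f, dif_pos h0]
      rw [this] at hm
      exact (congrArg Subtype.val hm).symm)
    refine ⟨m, m.2, ?_⟩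
    have := hf m hm0
    rwa [hm] at this
  have h1S : (1 : AddMonoid.End P) ∈ S := (hmemS _).mpr ⟨a₀, hone⟩
  have h1T : (1 : AddMonoid.End P) ∈ T := by
    obtain ⟨n, hn, h1, -⟩ := hST 1 h1S one_ne_zero
    rw [one_mul] at h1
    exact h1 ▸ hn
  have hSinv : ∀ m ∈ S, m ≠ 0 → ∃ b ∈ S, m * b = 1 ∧ b * m = 1 := by
    intro m hm hm0
    by_cases hm1 : m = 1
    · exact ⟨1, h1S, by rw [hm1, mul_one], by rw [hm1, mul_one]⟩
    obtain ⟨mi, -, hmi, hmi'⟩ := hST m hm hm0
    obtain ⟨n, hn, -, hn'⟩ := hST (m - 1) (S.sub_mem hm h1S) (sub_ne_zero.mpr hm1)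
    have e : (1 + n) * (1 - mi) = 1 := by
      have h2 : 1 + n = n * m := by
        rw [← hn', mul_sub, mul_one, sub_add_cancel]
      rw [h2, mul_assoc, mul_sub, mul_one, hmi, hn']
    obtain ⟨s, hs, hsn, -⟩ := hTS (1 + n) (T.add_mem h1T hn) fun h0 => by
      rw [h0, zero_mul] at e
      exact zero_ne_one e
    have hs' : s = 1 - mi := left_inv_eq_right_inv hsn e
    refine ⟨mi, ?_, hmi, hmi'⟩
    have := S.sub_mem h1S hs
    rwa [hs', sub_sub_cancel] at this
  have hpP : ∀ x : P, p • x = 0 := fun x => by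
    obtain ⟨c, rfl⟩ := hqsurj x
    rw [← map_nsmul, show p • c = 0 from Subtype.ext (hpW _), map_zero]
  obtain ⟨R, hR, hRF⟩ := exists_subring hp.out hpP S h1S hSinv
  letI : Field R := hRF.toField
  let eF : Shrink.{0} R ≃+* R := Shrink.ringEquiv.{0} R
  let F := Shrink.{0} R
  letI : Fintype F := @Fintype.ofEquiv _ _ (Fintype.ofFinite R) (equivShrink.{0} R)
  let ι : F →+* AddMonoid.End P := R.subtype.comp eF.toRingHom
  have hι : ∀ m, m ∈ S ↔ ∃ k, ι k = m := fun m => by
    rw [← SetLike.mem_coe, ← hR]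
    exact ⟨fun hm => ⟨eF.symm ⟨m, hm⟩, congrArg Subtype.val (eF.apply_symm_apply _)⟩,
      fun ⟨k, hk⟩ => hk ▸ (eF k).2⟩
  obtain ⟨v₁, hv₁⟩ := exists_ne (0 : P)
  let ev : F →+ P := AddMonoidHom.mk' (fun k => ι k v₁) fun k l => by rw [map_add]; rfl
  have hevinj : Function.Injective ev := by
    rw [injective_iff_map_eq_zero]
    intro k hk
    by_contra hk0
    refine hv₁ ?_
    have h1 : ι k⁻¹ (ι k v₁) = v₁ := by
      show (ι k⁻¹ * ι k) v₁ = v₁
      rw [← map_mul, inv_mul_cancel₀ hk0, map_one]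
      rfl
    rw [← h1, show ι k v₁ = 0 from hk, map_zero]
  have hcardP : Nat.card P = q := by
    have hker : Nat.card qC.ker = Nat.card ↥(C ⊓ C') :=
      Nat.card_congr
        { toFun := fun c => ⟨((c : C) : W), (hqC0 _).mp c.2⟩
          invFun := fun w => ⟨⟨w, w.2.1⟩, (hqC0 _).mpr w.2⟩
          left_inv := fun _ => rfl
          right_inv := fun _ => rfl }
    have h1 := qC.ker.index_mul_card
    rw [AddSubgroup.index_ker, AddMonoidHom.range_eq_top.mpr hqsurj, AddSubgroup.card_top, hker,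
      pd.card_fix] at h1
    exact Nat.eq_of_mul_eq_mul_right Nat.card_pos h1
  have hcardF : Nat.card F = q := by
    rw [← hcardS, Nat.card_congr (equivShrink.{0} R).symm]
    exact Nat.card_congr (Equiv.setCongr hR)
  have hevbij : Function.Bijective ev :=
    (Nat.bijective_iff_injective_and_card ev).mpr ⟨hevinj, hcardF.trans hcardP.symm⟩
  let eP : F ≃+ P := AddEquiv.ofBijective ev hevbij
  have hmul : ∀ (k : F) (x : P), eP.symm (ι k x) = k * eP.symm x := fun k x => by
    refine eP.injective ?_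
    rw [eP.apply_symm_apply]
    conv_lhs => rw [← eP.apply_symm_apply x]
    show ι k (ι (eP.symm x) v₁) = ι (k * eP.symm x) v₁
    rw [map_mul]
    rfl
  let θ : W →+ (Fin 2 → F) := AddMonoidHom.mk' (fun w => ![eP.symm (π1 w), eP.symm (π2 w)])
    fun v w => by
      funext i
      fin_cases i <;> simp
  have hθapply : ∀ w, θ w = ![eP.symm (π1 w), eP.symm (π2 w)] := fun _ => rfl
  have hθker : ∀ w : W, θ w = 0 ↔ ∀ h : H, h • w = w := by
    intro w
    rw [← hZ, hθapply]
    constructor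
    · intro h
      have h1 : π1 w = 0 := eP.symm.map_eq_zero_iff.mp (congrFun h 0)
      have h2 : π2 w = 0 := eP.symm.map_eq_zero_iff.mp (congrFun h 1)
      obtain ⟨c, y, hy, rfl⟩ := hsup w
      rw [map_add, hπ1C' y hy, add_zero, hπ1C, hqC0] at h1
      rw [map_add, hπ2C c c.2, zero_add] at h2
      exact (C ⊓ C').add_mem h1 ⟨hδker a₀ ha₀1 y hy h2, hy⟩
    · intro h
      rw [hπ2C w h.1, hπ1C' w h.2, map_zero]
      funext i
      fin_cases i <;> rfl
  have hθsurj : Function.Surjective θ := by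
    have hker : θ.ker = C ⊓ C' := by
      ext w
      rw [AddMonoidHom.mem_ker, hθker, hZ]
    have hrange : θ.range = ⊤ := by
      refine AddSubgroup.eq_top_of_le_card _ ?_
      rw [← AddSubgroup.index_ker, hker]
      refine Nat.le_of_mul_le_mul_right ?_ (Nat.card_pos (α := ↥(C ⊓ C')))
      rw [AddSubgroup.index_mul_card, pd.card_index, ← hq, Nat.card_fun, Nat.card_fin, hcardF, sq]
    exact AddMonoidHom.range_eq_top.mp hrange
  let Act : H → SpecialLinearGroup (Fin 2) F → Prop := fun h m =>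
    ∀ w, θ (h • w) = (m : Matrix (Fin 2) (Fin 2) F) *ᵥ θ w
  have hAone : Act 1 1 := fun w => by
    show θ ((1 : H) • w) = (1 : Matrix (Fin 2) (Fin 2) F) *ᵥ θ w
    rw [one_smul, one_mulVec]
  have hAmul : ∀ h h' m m', Act h m → Act h' m' → Act (h * h') (m * m') := by
    intro h h' m m' h1 h2 w
    show _ = (m.1 * m'.1) *ᵥ θ w
    rw [← mulVec_mulVec, ← h2, ← h1, mul_smul]
  have hAinv : ∀ h m, Act h m → Act h⁻¹ m⁻¹ := by
    intro h m h1 w
    have h2 := h1 (h⁻¹ • w)
    rw [smul_inv_smul] at h2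
    rw [h2, mulVec_mulVec, show (m⁻¹).1 * m.1 = (1 : Matrix (Fin 2) (Fin 2) F) from
      congrArg Subtype.val (inv_mul_cancel m), one_mulVec]
  have huniq : ∀ h m m', Act h m → Act h m' → m = m' := by
    intro h m m' h1 h2
    refine SpecialLinearGroup.toLin'_injective (LinearEquiv.ext fun l => ?_)
    rw [SpecialLinearGroup.toLin'_apply, SpecialLinearGroup.toLin'_apply, Matrix.toLin'_apply,
      Matrix.toLin'_apply]
    obtain ⟨w, rfl⟩ := hθsurj l
    exact (h1 w).symm.trans (h2 w)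
  have h01 : (0 : Fin 2) ≠ 1 := by decide
  have hup : ∀ (a : A) (k : F), ι k = M a →
      Act a (SpecialLinearGroup.transvection h01 k) := by
    intro a k hk w
    rw [hθapply, hπ1a, hπ2a, map_add, ← hk, hmul]
    funext i
    fin_cases i <;>
      simp [hθapply, SpecialLinearGroup.transvection_coe, Matrix.mulVec, dotProduct,
        Fin.sum_univ_two, Matrix.one_apply, Matrix.single_apply]
  have hlow : ∀ (b : B) (k : F), ι k = N b →
      Act b (SpecialLinearGroup.transvection h01.symm k) := by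
    intro b k hk w
    rw [hθapply, hπ1b, hπ2b, map_add, ← hk, hmul]
    funext i
    fin_cases i <;>
      simp [hθapply, SpecialLinearGroup.transvection_coe, Matrix.mulVec, dotProduct,
        Fin.sum_univ_two, Matrix.one_apply, Matrix.single_apply]
  have hTSsub : ∀ n ∈ T, n ∈ S := by
    intro n hn
    by_cases hn0 : n = 0
    · rw [hn0]; exact S.zero_mem
    obtain ⟨m, hm, hmn, -⟩ := hTS n hn hn0
    have hm0 : m ≠ 0 := fun h => by rw [h, zero_mul] at hmn; exact zero_ne_one hmn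
    obtain ⟨b, hb, -, hbm⟩ := hSinv m hm hm0
    rwa [← left_inv_eq_right_inv hbm hmn]
  let Good : Subgroup H :=
    { carrier := {h | ∃ m, Act h m}
      one_mem' := ⟨1, hAone⟩
      mul_mem' := fun ⟨m, hm⟩ ⟨m', hm'⟩ => ⟨m * m', hAmul _ _ _ _ hm hm'⟩
      inv_mem' := fun ⟨m, hm⟩ => ⟨m⁻¹, hAinv _ _ hm⟩ }
  have hgood : A ⊔ B ≤ Good := by
    refine sup_le (fun a ha => ?_) (fun b hb => ?_)
    · obtain ⟨k, hk⟩ := (hι _).mp ((hmemS _).mpr ⟨⟨a, ha⟩, rfl⟩)
      exact ⟨_, hup ⟨a, ha⟩ k hk⟩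
    · obtain ⟨k, hk⟩ := (hι _).mp (hTSsub _ ((hmemT _).mpr ⟨⟨b, hb⟩, rfl⟩))
      exact ⟨_, hlow ⟨b, hb⟩ k hk⟩
  choose ρf hρf using fun h : H => hgood (htop h)
  let ρ : H →* SpecialLinearGroup (Fin 2) F := MonoidHom.mk' ρf fun h h' =>
    huniq _ _ _ (hρf (h * h')) (hAmul _ _ _ _ (hρf h) (hρf h'))
  have hsurj : Function.Surjective ρ := by
    rw [← MonoidHom.range_eq_top, eq_top_iff, ← AutPSL.closure_transvections, Subgroup.closure_le]
    rintro _ ⟨i, j, hij, k, rfl⟩
    have hu : SpecialLinearGroup.transvection h01 k ∈ ρ.range := by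
      obtain ⟨a, ha⟩ := (hmemS _).mp ((hι (ι k)).mpr ⟨k, rfl⟩)
      exact ⟨a, huniq _ _ _ (hρf a) (hup a k ha.symm)⟩
    have hl : SpecialLinearGroup.transvection h01.symm k ∈ ρ.range := by
      have hkS : ι k ∈ S := (hι (ι k)).mpr ⟨k, rfl⟩
      have hkT : ι k ∈ T := by
        by_cases hk0 : ι k = 0
        · rw [hk0]; exact T.zero_mem
        obtain ⟨m, hm, -, hmk⟩ := hSinv _ hkS hk0
        have hm0 : m ≠ 0 := fun h => by rw [h, zero_mul] at hmk; exact zero_ne_one hmk
        obtain ⟨n, hn, -, hnm⟩ := hST m hm hm0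
        have h3 : ι k = n := (left_inv_eq_right_inv hnm hmk).symm
        rwa [h3]
      obtain ⟨b, hb⟩ := (hmemT _).mp hkT
      exact ⟨b, huniq _ _ _ (hρf b) (hlow b k hb.symm)⟩
    fin_cases i <;> fin_cases j
    · exact absurd rfl hij
    · exact hu
    · exact hl
    · exact absurd rfl hij
  have hinj : Function.Injective ρ := by
    rw [injective_iff_map_eq_one]
    intro h hh
    have hker : ∀ h : H, ρ h = 1 → ∀ w, θ (h • w) = θ w := fun h hh w => by
      rw [hρf h w, show (ρf h).1 = (1 : Matrix (Fin 2) (Fin 2) F) from congrArg Subtype.val hh,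
        one_mulVec]
    have hpow : h ^ p = 1 := by
      refine FaithfulSMul.eq_of_smul_eq_smul (α := W) fun w => ?_
      have hd : ∀ x : H, x • (h • w - w) = h • w - w := by
        refine (hθker _).mp ?_
        rw [map_sub, hker h hh w, sub_self]
      have hk : ∀ k : ℕ, h ^ k • w = w + k • (h • w - w) := by
        intro k
        induction k with
        | zero => simp
        | succ k ih =>
          rw [pow_succ, mul_smul, succ_nsmul, ← add_assoc, ← ih]
          have e := hd (h ^ k)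
          rw [smul_sub] at e
          rw [← e]
          abel
      rw [hk, hpW, add_zero, one_smul]
    refine hker' h hpow fun w => ?_
    refine (hθker _).mp ?_
    rw [map_sub, hker h hh w, sub_self]
  exact ⟨F, inferInstance, inferInstance, Nat.card_eq_fintype_card.symm.trans hcardF,
    MulEquiv.ofBijective ρ ⟨hinj, hsurj⟩, θ, hθsurj, hθker, fun h w => hρf h w⟩

end Cfsg.Agent.Lib.RankOneFF
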