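import Cfsg.Agent.Lib.RankOneFF.Structure

/-!
# The action of the structure group and of inversion on the points

`piHom` is the action of the structure group on the lines of `A`, `jPerm` is the inversion of lines.
An `r`-element of the projective group has exactly one lift with `r`-th power one when `r` does
not divide `Q - 1`.
-/

set_option autoImplicit false

namespace Cfsg.Agent.Lib.RankOneFF.Jordan

open scoped LinearAlgebra.Projectivization

section Scalar

variable {K M : Type*} [Field K] [AddCommGroup M] [Module K M]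

/-- A linear bijection fixing every line is a scalar. -/
theorem exists_scalar [Nontrivial M] (g : M ≃ₗ[K] M) (hfix : ∀ ω : ℙ K M, g • ω = ω) :
    ∃ c : K, c ≠ 0 ∧ ∀ v, g v = c • v := by
  have hv : ∀ v, v ≠ 0 → ∃ a : K, a • v = g v := fun v hv => by
    have h := hfix (Projectivization.mk K v hv)
    rw [Projectivization.smul_mk, Projectivization.mk_eq_mk_iff'] at h
    exact h
  obtain ⟨e, he⟩ := exists_ne (0 : M)
  obtain ⟨c, hc⟩ := hv e he
  refine ⟨c, fun h => he (g.injective (by rw [map_zero, ← hc, h, zero_smul])), fun v => ?_⟩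
  by_cases hmem : ∃ a : K, a • e = v
  · obtain ⟨a, rfl⟩ := hmem
    rw [map_smul, ← hc, smul_comm]
  · push Not at hmem
    have hv0 : v ≠ 0 := fun h => hmem 0 (by rw [h, zero_smul])
    have hev : e + v ≠ 0 := fun h => hmem (-1) (by
      rw [neg_one_smul]; exact neg_eq_of_add_eq_zero_right h)
    obtain ⟨a, ha⟩ := hv v hv0
    obtain ⟨b, hb⟩ := hv _ hev
    rw [map_add, ← hc, ← ha, smul_add] at hb
    have h1 : (b - c) • e = (a - b) • v := by
      rw [sub_smul, sub_smul, sub_eq_sub_iff_add_eq_add, hb, add_comm]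
    by_cases hab : a = b
    · rw [hab, sub_self, zero_smul] at h1
      rw [← ha, hab, sub_eq_zero.mp ((smul_eq_zero.mp h1).resolve_right he)]
    · exfalso
      refine hmem ((a - b)⁻¹ * (b - c)) ?_
      rw [mul_smul, h1, inv_smul_smul₀ (sub_ne_zero.mpr hab)]

variable [Finite K] [Nontrivial M] {r : ℕ}

theorem coprime_card_sub_one (hr : r.Prime) (hQ : ¬ r ∣ Nat.card K - 1) :
    (Nat.card Kˣ).Coprime r := by
  rw [Nat.card_units]
  exact ((hr.coprime_iff_not_dvd).mpr hQ).symm

/-- Two lifts with `r`-th power one agree. -/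
theorem lift_unique (hr : r.Prime) (hQ : ¬ r ∣ Nat.card K - 1) {a b : M ≃ₗ[K] M}
    (h : ∀ ω : ℙ K M, a • ω = b • ω) (ha : a ^ r = 1) (hb : b ^ r = 1) : a = b := by
  obtain ⟨c, hc0, hc⟩ := exists_scalar (b⁻¹ * a) fun ω => by
    rw [mul_smul, h, inv_smul_smul]
  have hab : ∀ v, a v = c • b v := fun v => by
    have h2 : b ((b⁻¹ * a) v) = b (c • v) := congrArg b (hc v)
    rw [map_smul] at h2
    rw [← h2]
    exact (b.apply_symm_apply (a v)).symm
  have hpow : ∀ k : ℕ, ∀ v, (a ^ k : M ≃ₗ[K] M) v = c ^ k • (b ^ k : M ≃ₗ[K] M) v := by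
    intro k
    induction k with
    | zero => intro v; simp
    | succ k ih =>
      intro v
      rw [pow_succ', pow_succ' b]
      show a ((a ^ k : M ≃ₗ[K] M) v) = c ^ (k + 1) • b ((b ^ k : M ≃ₗ[K] M) v)
      rw [ih, map_smul, hab, smul_smul, pow_succ]
  obtain ⟨e, he⟩ := exists_ne (0 : M)
  have hcr : c ^ r = 1 := by
    have h2 := hpow r e
    rw [ha, hb] at h2
    have h3 : ((1 : K) - c ^ r) • e = 0 := by
      rw [sub_smul, one_smul, sub_eq_zero]
      exact h2
    exact (sub_eq_zero.mp ((smul_eq_zero.mp h3).resolve_right he)).symm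
  have hcu : Units.mk0 c hc0 = 1 := by
    refine (powCoprime (coprime_card_sub_one hr hQ)).injective ?_
    refine Units.ext ?_
    simp [hcr]
  have hc1 : c = 1 := congrArg Units.val hcu
  exact LinearEquiv.ext fun v => by rw [hab, hc1, one_smul]

end Scalar

variable {E : Type*} [Ring E] [Finite E] [Nontrivial E] {p : ℕ} {A : AddSubgroup E}
  {K : Type*} [Field K] [Module K A] {φ : K →+* E} (hA : IsJord p A) (hS : Scal A φ)

/-- The action of the structure group on the lines. -/
noncomputable def piHom : str (K := K) hA →* Equiv.Perm (ℙ K A) :=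
  (MulAction.toPermHom (A ≃ₗ[K] A) (ℙ K A)).comp (str hA).subtype

theorem piHom_apply (f : str (K := K) hA) (ω : ℙ K A) :
    piHom hA f ω = (f : A ≃ₗ[K] A) • ω := rfl

/-- The point of the unit. -/
noncomputable def onePt : ℙ K A := Projectivization.mk K hA.one' hA.one'_ne_zero

/-- Inversion of a line. -/
noncomputable def jFun (ω : ℙ K A) : ℙ K A :=
  Projectivization.mk K (hA.jv ω.rep) (hA.jv_ne_zero ω.rep_nonzero)

include hS

theorem jFun_mk (v : A) (hv : v ≠ 0) :
    jFun hA (Projectivization.mk K v hv) = Projectivization.mk K (hA.jv v) (hA.jv_ne_zero hv) := by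
  rw [jFun, Projectivization.mk_eq_mk_iff']
  obtain ⟨a, ha⟩ := Projectivization.exists_smul_eq_mk_rep K v hv
  refine ⟨(a : K)⁻¹, ?_⟩
  rw [← hS.jv_smul hA, ← ha]
  rfl

theorem jFun_involutive : Function.Involutive (jFun (K := K) hA) := by
  intro ω
  induction ω using Projectivization.ind with
  | h v hv => simp only [jFun_mk hA hS, hA.jv_jv]

/-- Inversion of lines as a permutation. -/
noncomputable def jPerm : Equiv.Perm (ℙ K A) := (jFun_involutive hA hS).toPerm

theorem jPerm_mk (v : A) (hv : v ≠ 0) :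
    jPerm hA hS (Projectivization.mk K v hv) =
      Projectivization.mk K (hA.jv v) (hA.jv_ne_zero hv) :=
  jFun_mk hA hS v hv

theorem jPerm_mul_self : jPerm hA hS * jPerm hA hS = 1 :=
  Equiv.ext (jFun_involutive hA hS)

theorem jPerm_onePt : jPerm hA hS (onePt hA) = onePt hA := by
  simp only [onePt, jPerm_mk hA hS, hA.jv_one']

/-- Inversion normalises the image of the structure group. -/
theorem jPerm_conj {f f' : A ≃ₗ[K] A} (h : Pair hA f f') :
    jPerm hA hS * piHom hA ⟨f, f', h⟩ * jPerm hA hS = piHom hA ⟨f', f, h.symm hA⟩ := by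
  refine Equiv.ext fun ω => ?_
  induction ω using Projectivization.ind with
  | h v hv =>
    rw [Equiv.Perm.mul_apply, Equiv.Perm.mul_apply, jPerm_mk hA hS, piHom_apply,
      Projectivization.smul_mk, jPerm_mk hA hS, piHom_apply, Projectivization.smul_mk]
    congr 1
    show hA.jv (f (hA.jv v)) = f' v
    rw [h.1, hA.jv_jv]

/-- Lines fixed by inversion: only the unit. -/
theorem eq_onePt_of_fixed (hsmall : SmallComm A) {ω : ℙ K A} (h : jPerm hA hS ω = ω) :
    ω = onePt hA := by
  induction ω using Projectivization.ind with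
  | h v hv =>
    rw [jPerm_mk hA hS, Projectivization.mk_eq_mk_iff'] at h
    obtain ⟨c, hc⟩ := h
    have hc0 : c ≠ 0 := fun h0 => hA.jv_ne_zero hv (by rw [← hc, h0, zero_smul])
    have h1 : φ c * ((v : E) * v) = 1 := by
      have h2 := (hA.mul_jv hv).2
      rw [← hc, hS.smul, mul_assoc] at h2
      exact h2
    have h2 : (v : E) * v = φ c⁻¹ := by
      calc (v : E) * v = φ c⁻¹ * (φ c * ((v : E) * v)) := by
            rw [← mul_assoc, ← map_mul, inv_mul_cancel₀ hc0, map_one, one_mul]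
        _ = φ c⁻¹ := by rw [h1, mul_one]
    have hcen : φ c⁻¹ ∈ central A := by
      refine ⟨?_, fun a ha => hS.comm _ a ha⟩
      have h3 := hS.smul c⁻¹ hA.one'
      rw [hA.coe_one', mul_one] at h3
      exact h3 ▸ SetLike.coe_mem _
    obtain ⟨d, hd⟩ := hS.surj _ (hA.sq_central hsmall v.2 (h2 ▸ hcen))
    rw [onePt, Projectivization.mk_eq_mk_iff']
    exact ⟨d, Subtype.ext (by rw [hS.smul, hA.coe_one', mul_one, hd])⟩

/-- The structure group is transitive on lines. -/
theorem exists_map_onePt (hsmall : SmallComm A) (ω : ℙ K A) :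
    ∃ g : str (K := K) hA, piHom hA g (onePt hA) = ω := by
  induction ω using Projectivization.ind with
  | h v hv =>
    obtain ⟨c, hc, s, hs, hc0, hs0, hx⟩ :=
      hA.exists_central_mul_sq hsmall v.2 fun h => hv (Subtype.ext h)
    have hsA : (⟨s, hs⟩ : A) ≠ 0 := fun h => hs0 (congrArg Subtype.val h)
    refine ⟨⟨quadEquiv hA hS ⟨s, hs⟩ hsA, _, pair_quadEquiv hA hS _ hsA⟩, ?_⟩
    rw [piHom_apply, onePt, Projectivization.smul_mk, Projectivization.mk_eq_mk_iff']
    obtain ⟨d, hd⟩ := hS.surj c hc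
    have hd0 : d ≠ 0 := fun h => hc0 (by rw [← hd, h, map_zero])
    refine ⟨d⁻¹, Subtype.ext ?_⟩
    show ((d⁻¹ • v : A) : E) = s * 1 * s
    rw [hS.smul, hx, ← hd, ← mul_assoc, ← map_mul, inv_mul_cancel₀ hd0, map_one, one_mul, mul_one]

theorem piHom_smulOfNeZero {c : K} (hc : c ≠ 0) (f : str (K := K) hA) :
    piHom hA (⟨LinearEquiv.smulOfNeZero K A c hc, _, hS.pair_smul hA hc⟩ * f) = piHom hA f := by
  refine Equiv.ext fun ω => ?_
  induction ω using Projectivization.ind with
  | h v hv =>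
    rw [piHom_apply, piHom_apply, Projectivization.smul_mk, Projectivization.smul_mk,
      Projectivization.mk_eq_mk_iff']
    exact ⟨c, rfl⟩

set_option maxHeartbeats 1000000 in
/-- An `r`-element of the projective group has a lift with `r`-th power one. -/
theorem exists_lift [Finite K] {r : ℕ} (hr : r.Prime) (hQ : ¬ r ∣ Nat.card K - 1)
    {x : Equiv.Perm (ℙ K A)} (hx : x ∈ (piHom (K := K) hA).range) (hxr : x ^ r = 1) :
    ∃ d : str (K := K) hA, piHom hA d = x ∧ (d : A ≃ₗ[K] A) ^ r = 1 := by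
  obtain ⟨g, rfl⟩ := hx
  haveI : Nontrivial A := ⟨_, _, hA.one'_ne_zero⟩
  obtain ⟨c, hc0, hc⟩ := exists_scalar ((g : A ≃ₗ[K] A) ^ r) fun ω => by
    have := Equiv.congr_fun hxr ω
    rwa [← map_pow, piHom_apply] at this
  obtain ⟨u, hu⟩ := (powCoprime (coprime_card_sub_one hr hQ)).surjective (Units.mk0 c hc0)
  have hu' : (u : K) ^ r = c := by simpa using congrArg Units.val hu
  have hb : (u : K)⁻¹ ≠ 0 := inv_ne_zero u.ne_zero
  refine ⟨⟨LinearEquiv.smulOfNeZero K A _ hb, _, hS.pair_smul hA hb⟩ * g,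
    piHom_smulOfNeZero hA hS hb g, LinearEquiv.ext fun v => ?_⟩
  have hpow : ∀ k : ℕ, ∀ v, ((LinearEquiv.smulOfNeZero K A _ hb * (g : A ≃ₗ[K] A)) ^ k :
      A ≃ₗ[K] A) v = ((u : K)⁻¹) ^ k • ((g : A ≃ₗ[K] A) ^ k : A ≃ₗ[K] A) v := by
    intro k
    induction k with
    | zero => intro v; simp
    | succ k ih =>
      intro v
      rw [pow_succ', pow_succ' (g : A ≃ₗ[K] A)]
      show (u : K)⁻¹ • (g : A ≃ₗ[K] A)
        (((LinearEquiv.smulOfNeZero K A _ hb * (g : A ≃ₗ[K] A)) ^ k : A ≃ₗ[K] A) v) = _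
      rw [ih, map_smul, smul_smul, ← pow_succ']
      rfl
  show ((LinearEquiv.smulOfNeZero K A _ hb * (g : A ≃ₗ[K] A)) ^ r : A ≃ₗ[K] A) v = v
  rw [hpow, hc, smul_smul, inv_pow, hu', inv_mul_cancel₀ hc0, one_smul]

end Cfsg.Agent.Lib.RankOneFF.Jordan
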