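import Cfsg.Agent.Lib.RankOneFF.JordanSquares

/-!
# The structure group of a Jordan division set

`A` is a Jordan division set over its centre `K`.  The structure group consists of the `K`-linear
bijections `f` for which some linear `f'` satisfies `(f x)⁻¹ = f' x⁻¹` and
`(f x) (f' y) (f x) = f (x y x)`.  It contains the maps `y ↦ a y a` and the scalars, and it is
invariant under `f ↦ f'`.
-/

set_option autoImplicit false

namespace Cfsg.Agent.Lib.RankOneFF.Jordan

variable {E : Type*} [Ring E] [Finite E] [Nontrivial E] {p : ℕ} {A : AddSubgroup E}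
  {K : Type*} [Field K] [Module K A]

/-- `K` acts on `A` as its centre. -/
structure Scal (A : AddSubgroup E) [Module K A] (φ : K →+* E) : Prop where
  smul : ∀ (c : K) (x : A), ((c • x : A) : E) = φ c * x
  comm : ∀ (c : K), ∀ a ∈ A, φ c * a = a * φ c
  surj : ∀ z ∈ central A, ∃ c, φ c = z

namespace IsJord

variable (hA : IsJord p A)
include hA

/-- The unit. -/
def one' : A := ⟨1, hA.one_mem⟩

@[simp] theorem coe_one' : (hA.one' : E) = 1 := rfl

theorem one'_ne_zero : hA.one' ≠ 0 := fun h => one_ne_zero (congrArg Subtype.val h : (1 : E) = 0)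

/-- The quadratic operator. -/
def quad (a x : A) : A := ⟨a * x * a, hA.aba_mem a.2 x.2⟩

@[simp] theorem coe_quad (a x : A) : (hA.quad a x : E) = a * x * a := rfl

open Classical in
/-- Inversion, with `0 ↦ 0`. -/
noncomputable def jv (x : A) : A :=
  if h : (x : E) = 0 then 0 else ⟨_, (hA.inv x x.2 h).choose_spec.1⟩

theorem jv_zero : hA.jv 0 = 0 := by simp [jv]

theorem mul_jv {x : A} (hx : x ≠ 0) : (x : E) * hA.jv x = 1 ∧ (hA.jv x : E) * x = 1 := by
  have h : (x : E) ≠ 0 := fun h => hx (Subtype.ext h)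
  simp only [jv, dif_neg h]
  exact (hA.inv x x.2 h).choose_spec.2

theorem jv_eq {x y : A} (h : (x : E) * y = 1) : hA.jv x = y := by
  have hx : x ≠ 0 := by
    rintro rfl
    simp at h
  refine Subtype.ext ?_
  calc (hA.jv x : E) = hA.jv x * ((x : E) * y) := by rw [h, mul_one]
    _ = y := by rw [← mul_assoc, (hA.mul_jv hx).2, one_mul]

theorem jv_ne_zero {x : A} (hx : x ≠ 0) : hA.jv x ≠ 0 := by
  intro h
  have := (hA.mul_jv hx).1
  simp [h] at this

theorem jv_jv (x : A) : hA.jv (hA.jv x) = x := by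
  by_cases hx : x = 0
  · rw [hx, hA.jv_zero, hA.jv_zero]
  · exact hA.jv_eq (hA.mul_jv hx).2

theorem jv_one' : hA.jv hA.one' = hA.one' := hA.jv_eq (by simp)

theorem quad_jv_cancel {a : A} (ha : a ≠ 0) (x : A) : hA.quad (hA.jv a) (hA.quad a x) = x := by
  refine Subtype.ext ?_
  simp only [coe_quad]
  calc (hA.jv a : E) * (a * x * a) * hA.jv a = (hA.jv a * a) * x * (a * hA.jv a) := by
        simp only [mul_assoc]
    _ = x := by rw [(hA.mul_jv ha).1, (hA.mul_jv ha).2, one_mul, mul_one]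

theorem quad_ne_zero {a x : A} (ha : a ≠ 0) (hx : x ≠ 0) : hA.quad a x ≠ 0 := by
  intro h
  apply hx
  rw [← hA.quad_jv_cancel ha x, h]
  exact Subtype.ext (by simp)

theorem jv_quad (a x : A) : hA.jv (hA.quad a x) = hA.quad (hA.jv a) (hA.jv x) := by
  by_cases ha : a = 0
  · rw [ha, show hA.quad 0 x = 0 from Subtype.ext (by simp), hA.jv_zero]
    exact Subtype.ext (by simp)
  by_cases hx : x = 0
  · rw [hx, show hA.quad a 0 = 0 from Subtype.ext (by simp), hA.jv_zero]
    exact Subtype.ext (by simp)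
  refine hA.jv_eq ?_
  simp only [coe_quad]
  calc (a : E) * x * a * (hA.jv a * hA.jv x * hA.jv a)
      = (a : E) * x * (a * hA.jv a) * hA.jv x * hA.jv a := by simp only [mul_assoc]
    _ = (a : E) * (x * hA.jv x) * hA.jv a := by rw [(hA.mul_jv ha).1, mul_one, mul_assoc (a : E)]
    _ = 1 := by rw [(hA.mul_jv hx).1, mul_one, (hA.mul_jv ha).1]

end IsJord

variable {φ : K →+* E} (hA : IsJord p A) (hS : Scal A φ)

/-- A pair of the structure group. -/
def Pair (f f' : A ≃ₗ[K] A) : Prop :=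
  (∀ x, hA.jv (f x) = f' (hA.jv x)) ∧ ∀ x y, hA.quad (f x) (f' y) = f (hA.quad x y)

theorem Pair.one : Pair (K := K) hA 1 1 := ⟨fun _ => rfl, fun _ _ => rfl⟩

theorem Pair.mul {f f' g g' : A ≃ₗ[K] A} (hf : Pair hA f f') (hg : Pair hA g g') :
    Pair hA (f * g) (f' * g') :=
  ⟨fun x => (hf.1 (g x)).trans (congrArg f' (hg.1 x)),
    fun x y => (hf.2 (g x) (g' y)).trans (congrArg f (hg.2 x y))⟩

theorem Pair.inv {f f' : A ≃ₗ[K] A} (hf : Pair hA f f') : Pair hA f⁻¹ f'⁻¹ := by
  refine ⟨fun x => ?_, fun x y => ?_⟩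
  · show hA.jv (f.symm x) = f'.symm (hA.jv x)
    refine f'.injective ?_
    rw [f'.apply_symm_apply, ← hf.1, f.apply_symm_apply]
  · show hA.quad (f.symm x) (f'.symm y) = f.symm (hA.quad x y)
    refine f.injective ?_
    rw [f.apply_symm_apply, ← hf.2, f.apply_symm_apply, f'.apply_symm_apply]

theorem Pair.pow {f f' : A ≃ₗ[K] A} (hf : Pair hA f f') : ∀ k : ℕ, Pair hA (f ^ k) (f' ^ k)
  | 0 => by simpa using Pair.one (K := K) hA
  | k + 1 => by rw [pow_succ, pow_succ]; exact (hf.pow k).mul hA hf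

theorem Pair.unique {f f' f'' : A ≃ₗ[K] A} (h : Pair hA f f') (h' : Pair hA f f'') : f' = f'' := by
  refine LinearEquiv.ext fun x => ?_
  rw [← hA.jv_jv x, ← h.1, ← h'.1]

theorem Pair.symm {f f' : A ≃ₗ[K] A} (hf : Pair hA f f') : Pair hA f' f := by
  have h1 : ∀ x, hA.jv (f' x) = f (hA.jv x) := fun x => by
    have h2 := hf.1 (hA.jv x)
    rw [hA.jv_jv] at h2
    rw [← h2, hA.jv_jv]
  refine ⟨h1, fun x y => ?_⟩
  have h2 := congrArg hA.jv (hf.2 (hA.jv x) (hA.jv y))
  rw [hA.jv_quad, hf.1, hA.jv_jv, h1, hA.jv_jv, hf.1, hA.jv_quad, hA.jv_jv, hA.jv_jv] at h2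
  exact h2

theorem Pair.eq_of_one {f f' : A ≃ₗ[K] A} (hf : Pair hA f f') (h1 : f hA.one' = hA.one') :
    f' = f := by
  refine LinearEquiv.ext fun y => ?_
  have h := hf.2 hA.one' y
  rw [h1] at h
  have e : ∀ z, hA.quad hA.one' z = z := fun z => Subtype.ext (by simp)
  rwa [e, e] at h

/-- The structure group. -/
def str : Subgroup (A ≃ₗ[K] A) where
  carrier := {f | ∃ f', Pair hA f f'}
  one_mem' := ⟨1, Pair.one hA⟩
  mul_mem' := fun ⟨_, hf⟩ ⟨_, hg⟩ => ⟨_, hf.mul hA hg⟩
  inv_mem' := fun ⟨_, hf⟩ => ⟨_, hf.inv hA⟩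

include hS

theorem Scal.smul_mul_smul (c d : K) (x y : A) :
    ((c • x : A) : E) * ((d • y : A) : E) = φ (c * d) * ((x : E) * y) := by
  rw [hS.smul, hS.smul, map_mul]
  calc φ c * x * (φ d * y) = φ c * ((x : E) * φ d) * y := by simp only [mul_assoc]
    _ = φ c * (φ d * (x : E)) * y := by rw [← hS.comm d x x.2]
    _ = φ c * φ d * ((x : E) * y) := by simp only [mul_assoc]

theorem Scal.jv_smul (c : K) (x : A) : hA.jv (c • x) = c⁻¹ • hA.jv x := by
  by_cases hc : c = 0
  · simp [hc, hA.jv_zero]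
  by_cases hx : x = 0
  · simp [hx, hA.jv_zero]
  refine hA.jv_eq ?_
  rw [hS.smul_mul_smul, mul_inv_cancel₀ hc, map_one, one_mul, (hA.mul_jv hx).1]

theorem Scal.quad_smul (a : A) (c : K) (x : A) : hA.quad a (c • x) = c • hA.quad a x := by
  refine Subtype.ext ?_
  rw [IsJord.coe_quad, hS.smul, hS.smul, IsJord.coe_quad, ← mul_assoc (a : E),
    ← hS.comm c a a.2]
  simp only [mul_assoc]

theorem Scal.pair_smul {c : K} (hc : c ≠ 0) :
    Pair hA (LinearEquiv.smulOfNeZero K A c hc)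
      (LinearEquiv.smulOfNeZero K A c⁻¹ (inv_ne_zero hc)) := by
  refine ⟨fun x => ?_, fun x y => ?_⟩
  · exact hS.jv_smul hA c x
  · refine Subtype.ext ?_
    show ((c • x : A) : E) * ((c⁻¹ • y : A) : E) * ((c • x : A) : E) = ((c • hA.quad x y : A) : E)
    rw [hS.smul_mul_smul, mul_inv_cancel₀ hc, map_one, one_mul, hS.smul, hS.smul, IsJord.coe_quad]
    calc (x : E) * y * (φ c * x) = x * ((y : E) * φ c) * x := by simp only [mul_assoc]
      _ = x * (φ c * (y : E)) * x := by rw [← hS.comm c y y.2]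
      _ = ((x : E) * φ c) * y * x := by simp only [mul_assoc]
      _ = (φ c * (x : E)) * y * x := by rw [← hS.comm c x x.2]
      _ = φ c * ((x : E) * y * x) := by simp only [mul_assoc]

/-- The maps `y ↦ a y a`. -/
noncomputable def quadEquiv (a : A) (ha : a ≠ 0) : A ≃ₗ[K] A where
  toFun := hA.quad a
  map_add' x y := Subtype.ext (by simp [mul_add, add_mul])
  map_smul' c x := hS.quad_smul hA a c x
  invFun := hA.quad (hA.jv a)
  left_inv x := hA.quad_jv_cancel ha x
  right_inv x := by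
    have h := hA.quad_jv_cancel (hA.jv_ne_zero ha) x
    rwa [hA.jv_jv] at h

theorem pair_quadEquiv (a : A) (ha : a ≠ 0) :
    Pair hA (quadEquiv hA hS a ha) (quadEquiv hA hS (hA.jv a) (hA.jv_ne_zero ha)) := by
  refine ⟨fun x => hA.jv_quad a x, fun x y => Subtype.ext ?_⟩
  show (a : E) * x * a * (hA.jv a * y * hA.jv a) * (a * x * a) = a * (x * y * x) * a
  calc (a : E) * x * a * (hA.jv a * y * hA.jv a) * (a * x * a)
      = (a : E) * x * (a * hA.jv a) * y * (hA.jv a * a) * x * a := by simp only [mul_assoc]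
    _ = _ := by rw [(hA.mul_jv ha).1, (hA.mul_jv ha).2]; simp only [mul_one, mul_assoc]

end Cfsg.Agent.Lib.RankOneFF.Jordan
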